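import Groth.Agent.AbSch.K451.DetPic
import Groth.Agent.ASBun.K791.Dual
import Groth.Agent.Krr.H495.Rank

/-!
# Iterated direct sums `A ⊕ B^n`

`ds A B n = A ⊞ B ⊞ ... ⊞ B` (`n` copies of `B`): isomorphisms, pull-back, tensor products, rank, determinant.
-/

set_option autoImplicit false
universe u

open CategoryTheory CategoryTheory.Limits AlgebraicGeometry TopologicalSpace Opposite

namespace K319.Dsum

open Groth.Agent.Grpsch Groth.Agent.ASBun.K791.Tens Groth.Agent.ASBun.K791.Dual K451.DetPic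

variable {Y Z : Scheme.{u}}

/-- `A ⊕ B^n`. -/
noncomputable def ds (A B : Y.Modules) : ℕ → Y.Modules
  | 0 => A
  | n + 1 => ds A B n ⊞ B

theorem ds_iso {A A' B B' : Y.Modules} (e : Nonempty (A ≅ A')) (f : Nonempty (B ≅ B')) (n : ℕ) :
    Nonempty (ds A B n ≅ ds A' B' n) := by
  induction n with
  | zero => exact e
  | succ n ih =>
    obtain ⟨i⟩ := ih
    obtain ⟨j⟩ := f
    exact ⟨biprod.mapIso i j⟩

theorem ds_map (F : Y.Modules ⥤ Z.Modules) [F.Additive] (A B : Y.Modules) (n : ℕ) :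
    Nonempty (F.obj (ds A B n) ≅ ds (F.obj A) (F.obj B) n) := by
  induction n with
  | zero => exact ⟨Iso.refl _⟩
  | succ n ih =>
    obtain ⟨i⟩ := ih
    have := preservesBinaryBiproduct_of_preservesBiproduct F (ds A B n) B
    exact ⟨F.mapBiprod (ds A B n) B ≪≫ biprod.mapIso i (Iso.refl _)⟩

theorem ds_pull (g : Z ⟶ Y) (A B : Y.Modules) (n : ℕ) :
    Nonempty ((Scheme.Modules.pullback g).obj (ds A B n) ≅
      ds ((Scheme.Modules.pullback g).obj A) ((Scheme.Modules.pullback g).obj B) n) :=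
  ds_map _ A B n

theorem ds_tensor (A B E : Y.Modules) (n : ℕ) :
    Nonempty (CohB1.tensorMod (ds A B n) E ≅ ds (CohB1.tensorMod A E) (CohB1.tensorMod B E) n) := by
  induction n with
  | zero => exact ⟨Iso.refl _⟩
  | succ n ih =>
    obtain ⟨i⟩ := ih
    exact ⟨biprodTens (ds A B n) B E ≪≫ biprod.mapIso i (Iso.refl _)⟩

theorem tensor_ds (A B E : Y.Modules) (n : ℕ) :
    Nonempty (CohB1.tensorMod E (ds A B n) ≅ ds (CohB1.tensorMod E A) (CohB1.tensorMod E B) n) := by
  obtain ⟨i⟩ := ds_tensor A B E n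
  obtain ⟨j⟩ := ds_iso ⟨tensComm A E⟩ ⟨tensComm B E⟩ n
  exact ⟨tensComm E _ ≪≫ i ≪≫ j⟩

theorem rank_ds {A B : Y.Modules} {a b : ℕ} (hA : FlatMod.IsFinLocFreeOfRank a A)
    (hB : FlatMod.IsFinLocFreeOfRank b B) (n : ℕ) : FlatMod.IsFinLocFreeOfRank (a + n * b) (ds A B n) := by
  induction n with
  | zero => rw [zero_mul, add_zero]; exact hA
  | succ n ih =>
    have h := Groth.Agent.Krr.H495.Rank.rank_biprod ih hB
    have e : a + (n + 1) * b = a + n * b + b := by ring
    rw [e]
    exact h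

/-- The split short exact sequence of a direct sum. -/
theorem shortExact_biprod (A B : Y.Modules) :
    (ShortComplex.mk (biprod.inl : A ⟶ A ⊞ B) (biprod.snd : A ⊞ B ⟶ B) biprod.inl_snd).ShortExact :=
  ShortComplex.Splitting.shortExact
    { r := biprod.fst
      s := biprod.inr
      f_r := biprod.inl_fst
      s_g := biprod.inr_snd
      id := biprod.total }

theorem det_biprod {A B : Y.Modules} {a b : ℕ} (hA : FlatMod.IsFinLocFreeOfRank a A)
    (hB : FlatMod.IsFinLocFreeOfRank b B) (hAB : FlatMod.IsFinLocFreeOfRank (a + b) (A ⊞ B)) :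
    det (a + b) (A ⊞ B) hAB = det a A hA * det b B hB :=
  det_extension (shortExact_biprod A B) hA hB

theorem rank_one : FlatMod.IsFinLocFreeOfRank 1 (Coh.structureModule Y) :=
  rank_one_iff.2 Groth.Agent.Fdesc.LocGen.isInvertible_structureModule

/-- `L ⊕ O^n` has rank `n + 1`. -/
theorem rank_dsO {L : Y.Modules} (hL : FlatMod.IsFinLocFreeOfRank 1 L) (n : ℕ) :
    FlatMod.IsFinLocFreeOfRank (n + 1) (ds L (Coh.structureModule Y) n) := by
  have h := rank_ds hL rank_one n
  rwa [mul_one, add_comm] at h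

/-- `det (L ⊕ O^n) = L`. -/
theorem det_dsO {L : Y.Modules} (hL : FlatMod.IsFinLocFreeOfRank 1 L) (hL' : PicF.IsInvertible L) (n : ℕ) :
    det (n + 1) (ds L (Coh.structureModule Y) n) (rank_dsO hL n) = PicGrp.mk L hL' := by
  induction n with
  | zero => exact det_one hL hL'
  | succ n ih =>
    have h := det_biprod (rank_dsO hL n) (rank_one (Y := Y)) (rank_dsO hL (n + 1))
    rw [det_one rank_one Groth.Agent.Fdesc.LocGen.isInvertible_structureModule, ← PicGrp.one_def, mul_one, ih] at h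
    exact h

/-- An exterior power of `L ⊕ O^n` isomorphic to `L`. -/
theorem nonempty_of_isExtPow {L D : Y.Modules} (hL : FlatMod.IsFinLocFreeOfRank 1 L) (n : ℕ)
    (hD : ExtPow.IsExtPow (n + 1) (ds L (Coh.structureModule Y) n) D) : Nonempty (D ≅ L) := by
  have hL' : PicF.IsInvertible L := rank_one_iff.1 hL
  have hD' : PicF.IsInvertible D := K451.DetMat.isInvertible_of_isExtPow (rank_dsO hL n) hD
  have h := mk_eq_det (rank_dsO hL n) hD hD'
  rw [det_dsO hL hL'] at h
  exact (PicGrp.mk_eq_iff _ _).1 h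

end K319.Dsum
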