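import Groth.Agent.VBCurve.K707.Semi
import Groth.Agent.AbSch.K451.DetPic

/-!
# Semistable bundles of degree zero on a curve: extensions, direct sums

`X` a smooth (or regular) proper integral curve over a field `k`.

* `ss_iff_le`: a bundle of degree zero is semistable iff its locally free subsheaves have degree `≤ 0`;
* `ss_ext`, `ss_biprod`: extensions and direct sums of semistable bundles of degree zero;
* `ss_inv`: line bundles.
-/

set_option autoImplicit false
universe u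

open CategoryTheory CategoryTheory.Limits AlgebraicGeometry TopologicalSpace Opposite

namespace K319.SemiZero

open Groth.Agent.CycB.StalkExact Groth.Agent.VarietyA.DegRank K707.Base K707.Deg K707.Slope K707.Semi

variable {k : Type u} [Field k] {X : Scheme.{u}} [X.Over (Spec (CommRingCat.of k))]
  [IsIntegral X] [IsProper (X ↘ (Spec (CommRingCat.of k)))]

/-- A bundle of degree zero is semistable iff its subbundles have degree at most zero. -/
theorem ss_iff_le (C : Crv k X) {E : X.Modules} {r : ℕ} (hE : FlatMod.IsFinLocFreeOfRank r E)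
    (hd : Curv2.deg k X E r = 0) :
    ModFun.IsSlopeSemistable k X E r ↔
      ∀ (F : X.Modules) (i : F ⟶ E), Mono i → FlatMod.IsFinLocFree F → dg k F ≤ 0 := by
  rw [← ss_iff C hE]
  have hd' : dg k E = 0 := by rw [dg_of_rank k hE]; exact hd
  constructor
  · intro h F i hi hF
    have h1 := h F i hi hF
    rw [hd', zero_mul] at h1
    rcases Nat.eq_zero_or_pos (rk E) with h0 | h0
    · have hr := rk_le_of_mono C i (coh_of_vb hF) (isCoh_of_rank hE)
      rw [dg_of_vb_of_rk_eq_zero C hF (by omega)]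
    · have h0' : (0 : ℤ) < rk E := by exact_mod_cast h0
      exact nonpos_of_mul_nonpos_left h1 h0'
  · intro h F i hi hF
    rw [hd', zero_mul]
    exact mul_nonpos_of_nonpos_of_nonneg (h F i hi hF) (by positivity)

/-- Extensions. -/
theorem le_ext (C : Crv k X) {S : ShortComplex X.Modules} (hS : S.ShortExact)
    (h₃ : FlatMod.IsFinLocFree S.X₃)
    (hs₁ : ∀ (F : X.Modules) (i : F ⟶ S.X₁), Mono i → FlatMod.IsFinLocFree F → dg k F ≤ 0)
    (hs₃ : ∀ (F : X.Modules) (i : F ⟶ S.X₃), Mono i → FlatMod.IsFinLocFree F → dg k F ≤ 0)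
    (F : X.Modules) (i : F ⟶ S.X₂) (hi : Mono i) (hF : FlatMod.IsFinLocFree F) : dg k F ≤ 0 := by
  obtain ⟨I, p, j, hp, hj, hpj, hI, e1, e2, -, -⟩ := K707.Slope.exists_factor C (i ≫ S.g) (coh_of_vb hF) (coh_of_vb h₃)
  have hIv := vb_of_mono C j hI h₃
  have hKv := vb_kernel C (i ≫ S.g) hF (coh_of_vb h₃)
  have hmf : Mono S.f := hS.mono_f
  have hk : IsLimit (KernelFork.ofι S.f S.zero) := hS.fIsKernel
  let t : kernel (i ≫ S.g) ⟶ S.X₁ := (KernelFork.IsLimit.lift' hk (kernel.ι (i ≫ S.g) ≫ i) (by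
    rw [Category.assoc, kernel.condition])).1
  have ht : t ≫ S.f = kernel.ι (i ≫ S.g) ≫ i := (KernelFork.IsLimit.lift' hk (kernel.ι (i ≫ S.g) ≫ i) (by
    rw [Category.assoc, kernel.condition])).2
  have htm : Mono t := by
    have : Mono (t ≫ S.f) := by rw [ht]; infer_instance
    exact mono_of_mono t S.f
  have h4 := hs₁ _ t htm hKv
  have h5 := hs₃ _ j hj hIv
  omega

/-- Extensions of semistable bundles of degree zero. -/
theorem ss_ext (C : Crv k X) {S : ShortComplex X.Modules} (hS : S.ShortExact) {r₁ r₂ : ℕ}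
    (h₁ : FlatMod.IsFinLocFreeOfRank r₁ S.X₁) (h₃ : FlatMod.IsFinLocFreeOfRank r₂ S.X₃)
    (hd₁ : Curv2.deg k X S.X₁ r₁ = 0) (hd₃ : Curv2.deg k X S.X₃ r₂ = 0)
    (hs₁ : ModFun.IsSlopeSemistable k X S.X₁ r₁) (hs₃ : ModFun.IsSlopeSemistable k X S.X₃ r₂) :
    FlatMod.IsFinLocFreeOfRank (r₁ + r₂) S.X₂ ∧ Curv2.deg k X S.X₂ (r₁ + r₂) = 0 ∧
      ModFun.IsSlopeSemistable k X S.X₂ (r₁ + r₂) := by
  have h₂ := K451.DetPic.rank_extension hS h₁ h₃
  have hd : dg k S.X₂ = 0 := by
    rw [dg_add k S hS (isCoh_of_rank h₁) (isCoh_of_rank h₂) (isCoh_of_rank h₃), dg_of_rank k h₁, dg_of_rank k h₃,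
      hd₁, hd₃, add_zero]
  have hd₂ : Curv2.deg k X S.X₂ (r₁ + r₂) = 0 := by
    rw [dg_of_rank k h₂] at hd
    exact hd
  refine ⟨h₂, hd₂, (ss_iff_le C h₂ hd₂).2 fun F i hi hF => ?_⟩
  exact le_ext C hS (isFinLocFree_of_rank h₃)
    ((ss_iff_le C h₁ hd₁).1 hs₁) ((ss_iff_le C h₃ hd₃).1 hs₃) F i hi hF

omit [X.Over (Spec (CommRingCat.of k))] [IsIntegral X] [IsProper (X ↘ (Spec (CommRingCat.of k)))] in
/-- The split short exact sequence of a direct sum. -/
theorem shortExact_biprod (A B : X.Modules) [HasBinaryBiproduct A B] :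
    (ShortComplex.mk (biprod.inl : A ⟶ A ⊞ B) (biprod.snd : A ⊞ B ⟶ B) biprod.inl_snd).ShortExact :=
  ShortComplex.Splitting.shortExact
    { r := biprod.fst
      s := biprod.inr
      f_r := biprod.inl_fst
      s_g := biprod.inr_snd
      id := biprod.total }

/-- Direct sums of semistable bundles of degree zero. -/
theorem ss_biprod (C : Crv k X) {A B : X.Modules} [HasBinaryBiproduct A B] {r₁ r₂ : ℕ}
    (h₁ : FlatMod.IsFinLocFreeOfRank r₁ A) (h₃ : FlatMod.IsFinLocFreeOfRank r₂ B)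
    (hd₁ : Curv2.deg k X A r₁ = 0) (hd₃ : Curv2.deg k X B r₂ = 0)
    (hs₁ : ModFun.IsSlopeSemistable k X A r₁) (hs₃ : ModFun.IsSlopeSemistable k X B r₂) :
    FlatMod.IsFinLocFreeOfRank (r₁ + r₂) (A ⊞ B) ∧ Curv2.deg k X (A ⊞ B) (r₁ + r₂) = 0 ∧
      ModFun.IsSlopeSemistable k X (A ⊞ B) (r₁ + r₂) :=
  ss_ext C (shortExact_biprod A B) h₁ h₃ hd₁ hd₃ hs₁ hs₃

/-- Line bundles are semistable. -/
theorem ss_inv (C : Crv k X) {L : X.Modules} (hL : FlatMod.IsFinLocFreeOfRank 1 L) :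
    ModFun.IsSlopeSemistable k X L 1 := by
  rw [← ss_iff C hL]
  intro F i hi hF
  have hr := rk_le_of_mono C i (coh_of_vb hF) (isCoh_of_rank hL)
  rw [rk_of_rank hL] at hr ⊢
  rcases Nat.eq_zero_or_pos (rk F) with h0 | h0
  · rw [dg_of_vb_of_rk_eq_zero C hF h0, h0]; simp
  · have h1 : rk F = 1 := by omega
    have := dg_le_of_mono C i (coh_of_vb hF) (isCoh_of_rank hL) (by rw [rk_of_rank hL, h1])
    rw [h1]
    simpa using this

end K319.SemiZero
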