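import Groth.Agent.BunMod.K140.Defs2
import Groth.Agent.BunMod.K319.Dsum
import Groth.Agent.BunMod.K319.SemiZero
import Groth.Agent.JacVar.K531.GoodPt
import Groth.Agent.PerfB.FibreConc
import Groth.Agent.CurvesC.DegIso

/-!
# Direct sums of families of semistable bundles of degree zero

`X` a smooth proper geometrically connected curve over a field `k`, `T` a `k`-scheme.

* `ussOK_iff`: admissibility in terms of `SSB`; `ussOK_of_iso`, `ussOK_pull`, `ssb_pl`;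
* `ssb_biprod`, `ussOK_biprod`, `ussOK_ds`: direct sums;
* `ussOK_one_iff`: `ussOK 1 0` is admissibility for `PicDeg 0`; `ussOK_structure`: the structure sheaf.
-/

set_option autoImplicit false
universe u

open CategoryTheory CategoryTheory.Limits AlgebraicGeometry TopologicalSpace Opposite

namespace K319.SumFam

open K140.BM K319.Dsum K707.Base K707.Slope

variable {k : Type u} [Field k] {X : Scheme.{u}} [X.Over (Spec (CommRingCat.of k))]

/-- Admissibility on the geometric fibres. -/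
theorem ussOK_iff {r : ℕ} {T : Over (B0 k)} {E : (PicF.XT (st k X) T).Modules} :
    BunMod.ussOK (st k X) r 0 T E ↔ FlatMod.IsFinLocFreeOfRank r E ∧
      ∀ (Ω : Type u) [Field Ω] [IsAlgClosed Ω] (t : Spec (CommRingCat.of Ω) ⟶ T.left),
        SSB r (t ≫ T.hom) (pl k X (Over.homMk t rfl : Over.mk (t ≫ T.hom) ⟶ T) E) := by
  constructor
  · intro h
    refine ⟨h.1, fun Ω _ _ t => ⟨?_, h.2.1 Ω t, h.2.2 Ω t⟩⟩
    exact Groth.Agent.PerfB.FibreConc.isFinLocFreeOfRank_pullback _ h.1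
  · intro h
    exact ⟨h.1, fun Ω _ _ t => (h.2 Ω t).2.1, fun Ω _ _ t => (h.2 Ω t).2.2⟩

theorem ssb_of_iso {r : ℕ} {Ω : Type u} [Field Ω] {s : Spec (CommRingCat.of Ω) ⟶ B0 k}
    {E E' : (PicF.XT (st k X) (tpt s)).Modules} (e : E ≅ E') (h : SSB r s E) : SSB r s E' := by
  obtain ⟨h1, h2, h3⟩ := h
  let _ : (PicF.XT (st k X) (Over.mk s)).Over (Spec (CommRingCat.of Ω)) := ⟨PicF.XTproj (st k X) (Over.mk s)⟩
  have hd : Curv2.deg Ω (PicF.XT (st k X) (Over.mk s)) E r = Curv2.deg Ω (PicF.XT (st k X) (Over.mk s)) E' r :=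
    Groth.Agent.CurvesC.DegIso.deg_congr Ω e r
  refine ⟨K451.DetPic.rank_of_iso e h1, hd.symm.trans h2, ?_⟩
  intro F r' i hi h0 hF
  have h4 := h3 F r' (i ≫ e.inv) (mono_comp _ _) h0 hF
  rw [← hd]
  exact h4

theorem ussOK_of_iso {r : ℕ} {T : Over (B0 k)} {E E' : (PicF.XT (st k X) T).Modules} (e : E ≅ E')
    (h : BunMod.ussOK (st k X) r 0 T E) : BunMod.ussOK (st k X) r 0 T E' := by
  rw [ussOK_iff] at h ⊢
  exact ⟨K451.DetPic.rank_of_iso e h.1, fun Ω _ _ t => ssb_of_iso ((Scheme.Modules.pullback _).mapIso e) (h.2 Ω t)⟩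

/-- The fibres of an admissible family along all geometric points. -/
theorem ssb_pl {r : ℕ} {T : Over (B0 k)} {E : (PicF.XT (st k X) T).Modules} (h : BunMod.ussOK (st k X) r 0 T E)
    {Ω : Type u} [Field Ω] [IsAlgClosed Ω] {s : Spec (CommRingCat.of Ω) ⟶ B0 k} (t : Over.mk s ⟶ T) :
    SSB r s (pl k X t E) := by
  have key : ∀ (s : Spec (CommRingCat.of Ω) ⟶ B0 k) (t' : Spec (CommRingCat.of Ω) ⟶ T.left) (hs : t' ≫ T.hom = s),
      SSB r s (pl k X (Over.homMk t' hs : Over.mk s ⟶ T) E) := by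
    rintro s t' rfl
    exact (ussOK_iff.1 h).2 Ω t'
  have h1 := key s t.left (Over.w t)
  have h2 : (Over.homMk t.left (Over.w t) : Over.mk s ⟶ T) = t := by ext; rfl
  rwa [h2] at h1

/-- Pull-backs of families along composites. -/
theorem nonempty_plComp {T T' T'' : Over (B0 k)} (g' : T'' ⟶ T') (g : T' ⟶ T) (E : (PicF.XT (st k X) T).Modules) :
    Nonempty (pl k X g' (pl k X g E) ≅ pl k X (g' ≫ g) E) := by
  have h : PicF.XTmap (st k X) g' ≫ PicF.XTmap (st k X) g = PicF.XTmap (st k X) (g' ≫ g) :=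
    (Groth.Agent.Fga.RigGrp.XTmap_comp (st k X) g g').symm
  exact ⟨(Scheme.Modules.pullbackComp _ _).app E ≪≫ (Scheme.Modules.pullbackCongr h).app E⟩

/-- Pull-backs of admissible families. -/
theorem ussOK_pull {r : ℕ} {T T' : Over (B0 k)} (g : T' ⟶ T) {E : (PicF.XT (st k X) T).Modules}
    (h : BunMod.ussOK (st k X) r 0 T E) : BunMod.ussOK (st k X) r 0 T' (pl k X g E) := by
  rw [ussOK_iff]
  refine ⟨Groth.Agent.PerfB.FibreConc.isFinLocFreeOfRank_pullback _ h.1, fun Ω _ _ t => ?_⟩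
  obtain ⟨e⟩ := nonempty_plComp (Over.homMk t rfl : Over.mk (t ≫ T'.hom) ⟶ T') g E
  exact ssb_of_iso e.symm (ssb_pl h _)

section curve

variable [IsProper (X ↘ Spec (CommRingCat.of k))] [Smooth (X ↘ Spec (CommRingCat.of k))]
  [GeometricallyConnected (X ↘ Spec (CommRingCat.of k))] (hdim : topologicalKrullDim ↥X = 1)

include hdim

/-- The geometric fibre is a curve. -/
theorem crv_fib {Ω : Type u} [Field Ω] (s : Spec (CommRingCat.of Ω) ⟶ B0 k) :
    letI : (PicF.XT (st k X) (Over.mk s)).Over (Spec (CommRingCat.of Ω)) := ⟨PicF.XTproj (st k X) (Over.mk s)⟩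
    IsIntegral (PicF.XT (st k X) (Over.mk s)) ∧
      IsProper ((PicF.XT (st k X) (Over.mk s)) ↘ Spec (CommRingCat.of Ω)) ∧
      Smooth ((PicF.XT (st k X) (Over.mk s)) ↘ Spec (CommRingCat.of Ω)) ∧
      topologicalKrullDim (PicF.XT (st k X) (Over.mk s)) = 1 ∧
      Crv Ω (PicF.XT (st k X) (Over.mk s)) := by
  let _ : (PicF.XT (st k X) (Over.mk s)).Over (Spec (CommRingCat.of Ω)) := ⟨PicF.XTproj (st k X) (Over.mk s)⟩
  have h := K531.GoodPt.isSmoothProperCurve_bc s (f := st k X) hdim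
  obtain ⟨h1, h2, h3, h4⟩ := h
  have h5 : IsProper ((PicF.XT (st k X) (Over.mk s)) ↘ Spec (CommRingCat.of Ω)) := by assumption
  have h6 : Smooth ((PicF.XT (st k X) (Over.mk s)) ↘ Spec (CommRingCat.of Ω)) := by assumption
  exact ⟨by assumption, h5, h6, h4, Crv.of_smooth h4⟩

theorem ssb_biprod {r₁ r₂ : ℕ} {Ω : Type u} [Field Ω] {s : Spec (CommRingCat.of Ω) ⟶ B0 k}
    {E₁ E₂ : (PicF.XT (st k X) (tpt s)).Modules} (h₁ : SSB r₁ s E₁) (h₂ : SSB r₂ s E₂) :
    SSB (r₁ + r₂) s (E₁ ⊞ E₂) := by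
  let _ : (PicF.XT (st k X) (Over.mk s)).Over (Spec (CommRingCat.of Ω)) := ⟨PicF.XTproj (st k X) (Over.mk s)⟩
  obtain ⟨i1, i2, i3, i4, C⟩ := crv_fib hdim s
  exact K319.SemiZero.ss_biprod C h₁.1 h₂.1 h₁.2.1 h₂.2.1 h₁.2.2 h₂.2.2

/-- **Direct sums of admissible families.** -/
theorem ussOK_biprod {r₁ r₂ : ℕ} {T : Over (B0 k)} {E₁ E₂ : (PicF.XT (st k X) T).Modules}
    (h₁ : BunMod.ussOK (st k X) r₁ 0 T E₁) (h₂ : BunMod.ussOK (st k X) r₂ 0 T E₂) :
    BunMod.ussOK (st k X) (r₁ + r₂) 0 T (E₁ ⊞ E₂ : (PicF.XT (st k X) T).Modules) := by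
  rw [ussOK_iff] at h₁ h₂ ⊢
  refine ⟨Groth.Agent.Krr.H495.Rank.rank_biprod h₁.1 h₂.1, fun Ω _ _ t => ?_⟩
  have := preservesBinaryBiproduct_of_preservesBiproduct (Scheme.Modules.pullback
    (PicF.XTmap (st k X) (Over.homMk t rfl : Over.mk (t ≫ T.hom) ⟶ T))) E₁ E₂
  exact ssb_of_iso ((Scheme.Modules.pullback (PicF.XTmap (st k X)
    (Over.homMk t rfl : Over.mk (t ≫ T.hom) ⟶ T))).mapBiprod E₁ E₂).symm (ssb_biprod hdim (h₁.2 Ω t) (h₂.2 Ω t))

theorem ussOK_ds {a b : ℕ} {T : Over (B0 k)} {A B : (PicF.XT (st k X) T).Modules}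
    (hA : BunMod.ussOK (st k X) a 0 T A) (hB : BunMod.ussOK (st k X) b 0 T B) (n : ℕ) :
    BunMod.ussOK (st k X) (a + n * b) 0 T (ds A B n) := by
  induction n with
  | zero => rw [zero_mul, add_zero]; exact hA
  | succ n ih =>
    have h := ussOK_biprod hdim ih hB
    have e : a + (n + 1) * b = a + n * b + b := by ring
    rw [e]
    exact h

/-- Line bundles of degree zero on the fibres. -/
theorem ussOK_one_iff {T : Over (B0 k)} {L : (PicF.XT (st k X) T).Modules} :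
    BunMod.ussOK (st k X) 1 0 T L ↔ (ModFun.PicDeg (st k X) 0).ok T L := by
  constructor
  · intro h
    exact ⟨⟨trivial, h.1⟩, h.2.1⟩
  · intro h
    refine ⟨h.1.2, h.2, fun Ω _ _ t => ?_⟩
    let _ : (PicF.XT (st k X) (Over.mk (t ≫ T.hom))).Over (Spec (CommRingCat.of Ω)) :=
      ⟨PicF.XTproj (st k X) (Over.mk (t ≫ T.hom))⟩
    obtain ⟨i1, i2, i3, i4, C⟩ := crv_fib hdim (t ≫ T.hom)
    exact K319.SemiZero.ss_inv C (Groth.Agent.PerfB.FibreConc.isFinLocFreeOfRank_pullback _ h.1.2)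

omit [IsProper (X ↘ Spec (CommRingCat.of k))] [Smooth (X ↘ Spec (CommRingCat.of k))]
  [GeometricallyConnected (X ↘ Spec (CommRingCat.of k))] hdim in
theorem picDeg_structure (T : Over (B0 k)) :
    (ModFun.PicDeg (st k X) 0).ok T (Coh.structureModule (PicF.XT (st k X) T)) := by
  refine ⟨⟨trivial, rank_one⟩, fun Ω _ _ t => ?_⟩
  let _ : (PicF.XT (st k X) (Over.mk (t ≫ T.hom))).Over (Spec (CommRingCat.of Ω)) :=
    ⟨PicF.XTproj (st k X) (Over.mk (t ≫ T.hom))⟩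
  have h : Curv2.deg Ω (PicF.XT (st k X) (Over.mk (t ≫ T.hom)))
      ((Scheme.Modules.pullback (PicF.XTmap (st k X) (Over.homMk t rfl : Over.mk (t ≫ T.hom) ⟶ T))).obj
        (Coh.structureModule (PicF.XT (st k X) T))) 1 =
      Curv2.deg Ω (PicF.XT (st k X) (Over.mk (t ≫ T.hom))) (Coh.structureModule _) 1 :=
    Groth.Agent.CurvesC.DegIso.deg_congr Ω (Groth.Agent.ASBun.K791.Tens.pullUnit _) 1
  refine h.trans ?_
  rw [Curv2.deg]
  push_cast
  ring

theorem ussOK_structure (T : Over (B0 k)) :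
    BunMod.ussOK (st k X) 1 0 T (Coh.structureModule (PicF.XT (st k X) T)) :=
  (ussOK_one_iff hdim).2 (picDeg_structure T)

/-- `L ⊕ O^n` is admissible. -/
theorem ussOK_dsO {T : Over (B0 k)} {L : (PicF.XT (st k X) T).Modules} (hL : (ModFun.PicDeg (st k X) 0).ok T L)
    (n : ℕ) : BunMod.ussOK (st k X) (n + 1) 0 T (ds L (Coh.structureModule _) n) := by
  have h := ussOK_ds hdim ((ussOK_one_iff hdim).2 hL) (ussOK_structure hdim T) n
  rwa [mul_one, add_comm] at h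

end curve

end K319.SumFam
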