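import Groth.Agent.BunMod.K319.FittSum
import Groth.Agent.BunMod.K319.Dsum
import Groth.Agent.BunMod.K54.Theta
import Groth.Agent.Sga4h.LerayAcyc

/-!
# The theta ideal of a direct sum
-/

set_option autoImplicit false
universe u

open CategoryTheory CategoryTheory.Limits AlgebraicGeometry TopologicalSpace Opposite

namespace K319.ThetaSum

open K140.BM K319.Dsum Groth.Agent Groth.Agent.CohqB.FiniteType2

variable {Y : Scheme.{u}}

theorem appLin_comp {A B C : Y.Modules} (φ : A ⟶ B) (ψ : B ⟶ C) (V : Y.Opens) :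
    (appLinear ψ V).comp (appLinear φ V) = appLinear (φ ≫ ψ) V := rfl

theorem appLin_add {A B : Y.Modules} (φ ψ : A ⟶ B) (V : Y.Opens) :
    appLinear φ V + appLinear ψ V = appLinear (φ + ψ) V := rfl

theorem appLin_id (A : Y.Modules) (V : Y.Opens) : appLinear (𝟙 A) V = LinearMap.id := rfl

theorem appLin_zero (A B : Y.Modules) (V : Y.Opens) : appLinear (0 : A ⟶ B) V = 0 := rfl

/-- Sections of a direct sum. -/
noncomputable def secProd (A B : Y.Modules) (V : Y.Opens) :
    Γ(A ⊞ B, V) ≃ₗ[Γ(Y, V)] Γ(A, V) × Γ(B, V) :=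
  LinearEquiv.ofLinearMap
    ((appLinear (biprod.fst : A ⊞ B ⟶ A) V).prod (appLinear (biprod.snd : A ⊞ B ⟶ B) V))
    ((appLinear (biprod.inl : A ⟶ A ⊞ B) V).coprod (appLinear (biprod.inr : B ⟶ A ⊞ B) V))
    (by
      apply LinearMap.prod_ext
      · rw [LinearMap.comp_assoc, LinearMap.coprod_inl, LinearMap.prod_comp, appLin_comp, appLin_comp,
          biprod.inl_fst, biprod.inl_snd]
        rfl
      · rw [LinearMap.comp_assoc, LinearMap.coprod_inr, LinearMap.prod_comp, appLin_comp, appLin_comp,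
          biprod.inr_fst, biprod.inr_snd]
        rfl)
    (by
      rw [LinearMap.coprod_comp_prod, appLin_comp, appLin_comp, appLin_add, biprod.total]
      rfl)

theorem sheafIdeal_biprod {F A B : Y.Modules} (e : F ≅ A ⊞ B) (hF : Coh.IsQCoh F) (hA : Coh.IsQCoh A)
    (hB : Coh.IsQCoh B) (hF' : CohB1.IsFT F) (hA' : CohB1.IsFT A) (hB' : CohB1.IsFT B) :
    Fitt.sheafIdeal F 0 = Fitt.sheafIdeal A 0 * Fitt.sheafIdeal B 0 := by
  refine Scheme.IdealSheafData.ext (funext fun U => ?_)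
  rw [Scheme.IdealSheafData.ideal_mul, Pi.mul_apply, SDiv.K474.FittSheaf.sheafIdeal_ideal F hF hF',
    SDiv.K474.FittSheaf.sheafIdeal_ideal A hA hA', SDiv.K474.FittSheaf.sheafIdeal_ideal B hB hB']
  have i1 : F.IsQuasicoherent := hF
  have i2 : A.IsQuasicoherent := hA
  have i3 : B.IsQuasicoherent := hB
  have h1 := finite_sections_of_isFT F hF' U.2
  have h2 := finite_sections_of_isFT A hA' U.2
  have h3 := finite_sections_of_isFT B hB' U.2
  have h4 : Function.Bijective (appLinear e.hom U.1) := ConcreteCategory.bijective_of_isIso (e.hom.app U.1)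
  rw [K360.FittBasic.ideal_congr ((LinearEquiv.ofBijective (appLinear e.hom U.1) h4).trans (secProd A B U.1)) 0]
  exact K319.FittSum.ideal_prod

section Fam

variable {k : Type u} [Field k] {X : Scheme.{u}} [X.Over (Spec (CommRingCat.of k))] [IsProper (st k X)]
  (hdim : topologicalKrullDim X ≤ 1)

include hdim in
/-- **The theta ideal of a direct sum.** -/
theorem thetaIdeal_biprod {N : X.Modules} (hN : FlatMod.IsFinLocFree N) {T : Over (B0 k)} {a b : ℕ}
    {E E' : (PicF.XT (st k X) T).Modules} (hE : FlatMod.IsFinLocFreeOfRank a E)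
    (hE' : FlatMod.IsFinLocFreeOfRank b E') :
    thetaIdeal k N T (E ⊞ E' : (PicF.XT (st k X) T).Modules) = thetaIdeal k N T E * thetaIdeal k N T E' := by
  have hs := Krr.H495.Rank.rank_biprod hE hE'
  have h0 := K54.Theta.isFinLocFree_tw (K703.Basic.isFinLocFree_of_rank hs) hN
  have h1 := K54.Theta.isFinLocFree_tw (K703.Basic.isFinLocFree_of_rank hE) hN
  have h2 := K54.Theta.isFinLocFree_tw (K703.Basic.isFinLocFree_of_rank hE') hN
  have hadd : (Coh.Rpush (PicF.XTproj (st k X) T) 1).Additive := Sga4h.LerayAcyc.rightDerived_additive _ 1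
  have := preservesBinaryBiproduct_of_preservesBiproduct (Coh.Rpush (PicF.XTproj (st k X) T) 1)
    (CohB1.tensorMod E (cst k T N)) (CohB1.tensorMod E' (cst k T N))
  have e : (Coh.Rpush (PicF.XTproj (st k X) T) 1).obj (CohB1.tensorMod (E ⊞ E') (cst k T N)) ≅
      (Coh.Rpush (PicF.XTproj (st k X) T) 1).obj (CohB1.tensorMod E (cst k T N)) ⊞
        (Coh.Rpush (PicF.XTproj (st k X) T) 1).obj (CohB1.tensorMod E' (cst k T N)) :=
    (Coh.Rpush (PicF.XTproj (st k X) T) 1).mapIso (ASBun.K791.Dual.biprodTens E E' (cst k T N)) ≪≫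
      (Coh.Rpush (PicF.XTproj (st k X) T) 1).mapBiprod _ _
  exact sheafIdeal_biprod e
    (K54.FittBC.isQCoh_Rpush _ _ (Desc.FinLocFreeSections.isFP_of_isFinLocFree h0) 1)
    (K54.FittBC.isQCoh_Rpush _ _ (Desc.FinLocFreeSections.isFP_of_isFinLocFree h1) 1)
    (K54.FittBC.isQCoh_Rpush _ _ (Desc.FinLocFreeSections.isFP_of_isFinLocFree h2) 1)
    (K54.Theta.isFT_Rpush hdim h0) (K54.Theta.isFT_Rpush hdim h1) (K54.Theta.isFT_Rpush hdim h2)

include hdim in
theorem thetaIdeal_ds {N : X.Modules} (hN : FlatMod.IsFinLocFree N) {T : Over (B0 k)} {a b : ℕ}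
    {A B : (PicF.XT (st k X) T).Modules} (hA : FlatMod.IsFinLocFreeOfRank a A)
    (hB : FlatMod.IsFinLocFreeOfRank b B) (n : ℕ) :
    thetaIdeal k N T (ds A B n) = thetaIdeal k N T A * thetaIdeal k N T B ^ n := by
  induction n with
  | zero => rw [pow_zero, mul_one]; rfl
  | succ n ih =>
    rw [pow_succ, ← mul_assoc, ← ih]
    exact thetaIdeal_biprod hdim hN (rank_ds hA hB n) hB

end Fam

end K319.ThetaSum
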