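import Groth.Agent.BunMod.K319.ConnM
import Groth.Agent.Cyc.K309.ProdSurj
import Groth.Agent.Ega1.GenPts

/-!
# Connected normal schemes are geometrically integral over an algebraically closed field
-/

set_option autoImplicit false
universe u

open CategoryTheory Limits MonoidalCategory CartesianMonoidalCategory AlgebraicGeometry TopologicalSpace

namespace K319.IntM

theorem geomInt {k : Type u} [Field k] [IsAlgClosed k] {M : Over (Spec (CommRingCat.of k))}
    [LocallyOfFiniteType M.hom] (hN : Pi1.IsNormalScheme M.left) [ConnectedSpace M.left] :
    IsIntegral M.left ∧ GeometricallyIntegral M.hom := by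
  have hno : IsLocallyNoetherian M.left := LocallyOfFiniteType.isLocallyNoetherian M.hom
  have h := (Groth.Agent.Ega1.GenPts.isIntegral_iff M.left).2 ⟨inferInstance, fun x => (hN x).1⟩
  exact ⟨h, K309.ProdSurj.geometricallyIntegral M.hom⟩

end K319.IntM
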