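import Groth.Agent.BunMod.K319.Seesaw

/-!
# The theorem of the square for theta classes on moduli of bundles, abstract form

`J` an abelian variety over an algebraically closed field, `D θ a b = (a b)^* θ · (a^* θ)⁻¹ · (b^* θ)⁻¹`.

* `act_pull`: `a : J × M ⟶ M`, `d : M ⟶ J`, `s : J ⟶ M` a section of `d` such that every point `y` of `M` is linked to
  `s (d y)`, and `(ℓ, s y)^* θ_M = t_y^* θ · θ^(m-1)` as classes in `ℓ ∈ J`; then
  `a^* θ_M = p₁^* θ^m · p₂^* θ_M · D θ (p₁, d p₂)`.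
* `tensor_pull`: the same for `τ : M₁ × M₂ ⟶ M₃`.
-/

set_option autoImplicit false
universe u

open CategoryTheory Limits MonoidalCategory CartesianMonoidalCategory AlgebraicGeometry
open scoped MonObj
open Groth.Agent.Grpsch.PicGrp Groth.Agent.Grpsch.Cube
open K518.Phi K319.Seesaw

namespace K319.Core

variable {k : Type u} [Field k] [IsAlgClosed k] {J : Over (Spec (CommRingCat.of k))} [GrpObj J] [IsCommMonObj J]
  [IsProper J.hom] [GeometricallyIntegral J.hom]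

omit [IsAlgClosed k] in
/-- Proper geometrically integral schemes over a field are integral. -/
theorem isIntegral_left (A : Over (Spec (CommRingCat.of k))) [GeometricallyIntegral A.hom] : IsIntegral A.left :=
  GeometricallyIntegral.isIntegral_of_subsingleton A.hom

omit [IsAlgClosed k] [IsCommMonObj J] in
theorem normal_of_grp : Pi1.IsNormalScheme J.left := by
  have hsm : Smooth J.hom := by
    let _ : GrpObj (Over.mk J.hom) := inferInstanceAs (GrpObj J)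
    exact smooth_of_grpObj J.hom
  exact Groth.Agent.Sga7.H496.SeeSaw.isNormalScheme_of_smooth J.hom

section action

variable {M : Over (Spec (CommRingCat.of k))} [IsProper M.hom] [IsReduced M.left]

/-- **The action of `J` and the theta class.** -/
theorem act_pull {m : ℕ} (hm : 1 ≤ m) (θ : Pic J.left) (θM : Pic M.left) (a : J ⊗ M ⟶ M) (d : M ⟶ J)
    (s : J ⟶ M) (hsd : s ≫ d = 𝟙 J) (hlnk : ∀ y : Pt M, Lnk M y (y ≫ d ≫ s))
    (ha1 : lift (toUnit M ≫ (1 : Pt J)) (𝟙 M) ≫ a = 𝟙 M)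
    (hα : ∀ y : Pt J, pl (lift (𝟙 J) (toUnit J ≫ y ≫ s) ≫ a) θM = pl (tr y) θ * θ ^ (m - 1)) :
    pl a θM = pl (fst J M) θ ^ m * pl (snd J M) θM * D θ (fst J M) (snd J M ≫ d) := by
  have hint := isIntegral_left J
  set c : Pic (J ⊗ M).left := pl a θM * (pl (fst J M) θ ^ m * pl (snd J M) θM * D θ (fst J M) (snd J M ≫ d))⁻¹
    with hc
  have key : ∀ y : Pt M, pl (lift (𝟙 J) (toUnit J ≫ y)) c = 1 := by
    intro y
    rw [pl_eq_of_lnk J normal_of_grp c (hlnk y)]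
    rw [hc, map_mul, map_inv, map_mul, map_mul, map_pow, pl_D, ← pl_comp, ← pl_comp, ← pl_comp, lift_fst, lift_snd,
      ← Category.assoc _ (snd J M), lift_snd]
    have h1 : (toUnit J ≫ y ≫ d ≫ s) ≫ d = toUnit J ≫ (y ≫ d) := by
      rw [Category.assoc, Category.assoc, Category.assoc, hsd, Category.comp_id]
    rw [h1, D_id_const, pl_id, pl_const, mul_one]
    have h2 := hα (y ≫ d)
    rw [Category.assoc] at h2
    rw [h2, phi]
    obtain ⟨n, rfl⟩ : ∃ n, m = n + 1 := ⟨m - 1, by omega⟩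
    rw [Nat.add_sub_cancel, pow_succ]
    apply Additive.ofMul.injective
    simp only [ofMul_mul, ofMul_inv, ofMul_pow, ofMul_one]
    module
  obtain ⟨e, he⟩ := exists_pl_snd c key
  have h3 := congrArg (pl (lift (toUnit M ≫ (1 : Pt J)) (𝟙 M))) he
  rw [← pl_comp, lift_snd, pl_id, hc, map_mul, map_inv, map_mul, map_mul, map_pow, pl_D, ← pl_comp, ← pl_comp,
    ← pl_comp, lift_fst, lift_snd, ha1, pl_const, pl_id, MonObj.comp_one, D_one_left, one_pow, one_mul, mul_one,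
    mul_inv_cancel] at h3
  rw [h3, map_one, hc] at he
  exact (mul_inv_eq_one.1 he.symm)

end action

section tensor

variable {M₁ M₂ M₃ : Over (Spec (CommRingCat.of k))} [IsProper M₁.hom] [IsReduced M₁.left] [IsProper M₂.hom]
  [GeometricallyIntegral M₂.hom]

/-- **The tensor product map and the theta classes.** -/
theorem tensor_pull {m r : ℕ} (hm : 1 ≤ m) (hr : 1 ≤ r) (θ : Pic J.left) (θ₁ : Pic M₁.left) (θ₂ : Pic M₂.left)
    (θ₃ : Pic M₃.left) (hN : Pi1.IsNormalScheme M₂.left) (a : J ⊗ M₂ ⟶ M₂) (τ : M₁ ⊗ M₂ ⟶ M₃)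
    (d₁ : M₁ ⟶ J) (d₂ : M₂ ⟶ J) (s₁ : J ⟶ M₁) (s₂ : J ⟶ M₂) (hs₁ : s₁ ≫ d₁ = 𝟙 J) (hs₂ : s₂ ≫ d₂ = 𝟙 J)
    (hlnk₁ : ∀ x : Pt M₁, Lnk M₁ x (x ≫ d₁ ≫ s₁)) (hlnk₂ : ∀ y : Pt M₂, Lnk M₂ y (y ≫ d₂ ≫ s₂))
    (ha1 : lift (toUnit M₂ ≫ (1 : Pt J)) (𝟙 M₂) ≫ a = 𝟙 M₂)
    (hα : ∀ y : Pt J, pl (lift (𝟙 J) (toUnit J ≫ y ≫ s₂) ≫ a) θ₂ = pl (tr y) θ * θ ^ (m - 1))
    (hβ : ∀ x : Pt J, pl (lift (toUnit M₂ ≫ x ≫ s₁) (𝟙 M₂) ≫ τ) θ₃ =
      pl (lift (toUnit M₂ ≫ x) (𝟙 M₂) ≫ a) θ₂ * θ₂ ^ (r - 1))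
    (hγ : pl (lift (𝟙 M₁) (toUnit M₁ ≫ (1 : Pt J) ≫ s₂) ≫ τ) θ₃ = θ₁ ^ m) :
    pl τ θ₃ = pl (fst M₁ M₂) θ₁ ^ m * pl (snd M₁ M₂) θ₂ ^ r * D θ (fst M₁ M₂ ≫ d₁) (snd M₁ M₂ ≫ d₂) := by
  have hint := isIntegral_left M₂
  have hi := act_pull hm θ θ₂ a d₂ s₂ hs₂ hlnk₂ ha1 hα
  set c : Pic (M₁ ⊗ M₂).left := pl τ θ₃ *
    (pl (fst M₁ M₂) θ₁ ^ m * pl (snd M₁ M₂) θ₂ ^ r * D θ (fst M₁ M₂ ≫ d₁) (snd M₁ M₂ ≫ d₂))⁻¹ with hc
  have key : ∀ x : Pt M₁, pl (lift (toUnit M₂ ≫ x) (𝟙 M₂)) c = 1 := by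
    intro x
    have hsw : ∀ x' : Pt M₁, pl (lift (toUnit M₂ ≫ x') (𝟙 M₂)) c =
        pl (lift (𝟙 M₂) (toUnit M₂ ≫ x')) (pl (lift (snd M₂ M₁) (fst M₂ M₁)) c) := by
      intro x'
      rw [← pl_comp, comp_lift, lift_fst, lift_snd]
    rw [hsw, pl_eq_of_lnk M₂ hN _ (hlnk₁ x), ← hsw]
    rw [hc, map_mul, map_inv, map_mul, map_mul, map_pow, map_pow, pl_D, ← pl_comp, ← pl_comp, ← pl_comp, lift_fst,
      lift_snd, ← Category.assoc _ (snd M₁ M₂), ← Category.assoc _ (fst M₁ M₂), lift_snd, lift_fst, Category.id_comp,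
      pl_const, pl_id, one_pow, one_mul]
    have h1 : (toUnit M₂ ≫ x ≫ d₁ ≫ s₁) ≫ d₁ = toUnit M₂ ≫ (x ≫ d₁) := by
      rw [Category.assoc, Category.assoc, Category.assoc, hs₁, Category.comp_id]
    have h2 := hβ (x ≫ d₁)
    rw [Category.assoc] at h2
    rw [h1, h2, pl_comp, hi, map_mul, map_mul, map_pow, pl_D, ← pl_comp, ← pl_comp, lift_fst, lift_snd,
      ← Category.assoc _ (snd J M₂), lift_snd, Category.id_comp, pl_const, pl_id, one_pow, one_mul]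
    obtain ⟨n, rfl⟩ : ∃ n, r = n + 1 := ⟨r - 1, by omega⟩
    rw [Nat.add_sub_cancel, pow_succ]
    apply Additive.ofMul.injective
    simp only [ofMul_mul, ofMul_inv, ofMul_pow, ofMul_one]
    module
  obtain ⟨e, he⟩ := exists_pl_fst c key
  have h3 := congrArg (pl (lift (𝟙 M₁) (toUnit M₁ ≫ (1 : Pt J) ≫ s₂))) he
  have h4 : (toUnit M₁ ≫ (1 : Pt J) ≫ s₂) ≫ d₂ = 1 := by
    rw [Category.assoc, Category.assoc, hs₂, Category.comp_id, MonObj.comp_one]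
  rw [← pl_comp, lift_fst, pl_id, hc, map_mul, map_inv, map_mul, map_mul, map_pow, map_pow, pl_D, ← pl_comp,
    ← pl_comp, ← pl_comp, lift_fst, lift_snd, ← Category.assoc _ (snd M₁ M₂), lift_snd, h4, hγ, D_one_right,
    pl_const, pl_id, one_pow, mul_one, mul_one, mul_inv_cancel] at h3
  rw [h3, map_one, hc] at he
  exact (mul_inv_eq_one.1 he.symm)

end tensor

end K319.Core
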