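import Groth.Agent.BunMod.K319.Sect
import Groth.Agent.BunMod.K319.Core
import Groth.Agent.Jac.K914.Fine

/-!
# The action of the Jacobian on a moduli space of bundles, on points

`a : J ⊗ M ⟶ M` the morphism induced by the tensor product: `a (1, x) = x`, the translations `t_x`
are isomorphisms, and the section `s = [LL ⊕ O^n]` of the determinant.
-/

set_option autoImplicit false
universe u

open CategoryTheory CategoryTheory.Limits AlgebraicGeometry MonoidalCategory CartesianMonoidalCategory MonObj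

namespace K319.Teq

open K140.BM K319.Dsum K319.SumFam K319.Sect Groth.Agent.Grpsch.PicGrp K914.Cls

variable {k : Type u} [Field k] {X : Scheme.{u}} [X.Over (Spec (CommRingCat.of k))]

theorem hom_ext {r : ℕ} {M : Over (B0 k)} {φ : (BunMod.USS (st k X) r 0).Hom ⊤ M}
    (hM : ModFun.IsBestApprox ⊤ (BunMod.USS (st k X) r 0) M φ) {N : Over (B0 k)} {f g : M ⟶ N}
    (h : ∀ (T : Over (B0 k)) (E : (PicF.XT (st k X) T).Modules) (hE : (BunMod.USS (st k X) r 0).ok T E),
      φ.app T E trivial hE ≫ f = φ.app T E trivial hE ≫ g) : f = g := by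
  obtain ⟨f₀, -, h2⟩ := hM N (φ.comp f)
  rw [h2 f fun T x hT hx => rfl]
  exact (h2 g fun T x hT hx => h T x hx).symm

section curve

variable [IsProper (X ↘ Spec (CommRingCat.of k))] [Smooth (X ↘ Spec (CommRingCat.of k))]
  [GeometricallyConnected (X ↘ Spec (CommRingCat.of k))] (hdim : topologicalKrullDim ↥X = 1)

include hdim

theorem picDeg_tensor {T : Over (B0 k)} {L L' : (PicF.XT (st k X) T).Modules}
    (h : (ModFun.PicDeg (st k X) 0).ok T L) (h' : (ModFun.PicDeg (st k X) 0).ok T L') :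
    (ModFun.PicDeg (st k X) 0).ok T (CohB1.tensorMod L L') := by
  have hs : SmoothOfRelativeDimension 1 (st k X) := K532.Base.smoothOfRelDim _ hdim
  have h1 := (isDeg_of_ok h).mul (isDeg_of_ok h')
  rw [mk_mul_mk, add_zero] at h1
  exact (ok_iff _).2 h1

variable {J : Over (B0 k)} [GrpObj J] {ψ : (ModFun.PicDeg (st k X) 0).Hom ⊤ J}
  (hJ : Jac.IsJacobian (st k X) ⊤ J ψ)

include hJ

theorem app_tensorJ {T : Over (B0 k)} {L L' : (PicF.XT (st k X) T).Modules}
    (h : (ModFun.PicDeg (st k X) 0).ok T L) (h' : (ModFun.PicDeg (st k X) 0).ok T L') :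
    ψ.app T (CohB1.tensorMod L L') trivial (picDeg_tensor hdim h h') =
      ψ.app T L trivial h * ψ.app T L' trivial h' :=
  hJ.mul T trivial _ _ _ h h' _ ⟨Iso.refl _⟩

omit hdim [IsProper (X ↘ Spec (CommRingCat.of k))] [Smooth (X ↘ Spec (CommRingCat.of k))]
  [GeometricallyConnected (X ↘ Spec (CommRingCat.of k))] in
theorem app_one (T : Over (B0 k)) :
    ψ.app T (Coh.structureModule (PicF.XT (st k X) T)) trivial (picDeg_structure T) = 1 := by
  have h := hJ.mul T trivial _ _ _ (picDeg_structure T) (picDeg_structure T) (picDeg_structure T)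
    ⟨(Groth.Agent.ASBun.K791.Tens.tensRUnit (Coh.structureModule (PicF.XT (st k X) T))).symm⟩
  exact left_eq_mul.mp h

/-- Line bundles with the same classifying morphism over an algebraically closed field are isomorphic. -/
theorem nonempty_iso_of_app [IsAlgClosed k] {L L' : (PicF.XT (st k X) (𝟙_ (Over (B0 k)))).Modules}
    (h : (ModFun.PicDeg (st k X) 0).ok (𝟙_ (Over (B0 k))) L)
    (h' : (ModFun.PicDeg (st k X) 0).ok (𝟙_ (Over (B0 k))) L')
    (he : ψ.app _ L trivial h = ψ.app _ L' trivial h') : Nonempty (L ≅ L') := by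
  have hs : SmoothOfRelativeDimension 1 (st k X) := K532.Base.smoothOfRelDim _ hdim
  rw [app_eq' ψ trivial h, app_eq' ψ trivial h'] at he
  have h1 := psiCl_inj ψ (t := 𝟙 (B0 k)) hJ.coarse (isDeg_of_ok h) (isDeg_of_ok h') he
  exact (mk_eq_iff _ _).1 h1

section act

variable {r : ℕ} {M : Over (B0 k)} {φ : (BunMod.USS (st k X) r 0).Hom ⊤ M} {a : J ⊗ M ⟶ M}
  (ha : Jac.IsBinOpMap ψ φ φ (Jac.tensorRel (st k X)) a)

include ha in
omit hdim hJ [IsProper (X ↘ Spec (CommRingCat.of k))] [Smooth (X ↘ Spec (CommRingCat.of k))]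
  [GeometricallyConnected (X ↘ Spec (CommRingCat.of k))] [GrpObj J] in
theorem ok_tens {T : Over (B0 k)} {L E : (PicF.XT (st k X) T).Modules} (hL : (ModFun.PicDeg (st k X) 0).ok T L)
    (hE : (BunMod.USS (st k X) r 0).ok T E) : (BunMod.USS (st k X) r 0).ok T (CohB1.tensorMod L E) := by
  obtain ⟨G, hG, ⟨e⟩⟩ := ha.1 T L E trivial hL hE
  exact ⟨trivial, ussOK_of_iso e hG.2⟩

include ha in
omit hdim hJ [IsProper (X ↘ Spec (CommRingCat.of k))] [Smooth (X ↘ Spec (CommRingCat.of k))]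
  [GeometricallyConnected (X ↘ Spec (CommRingCat.of k))] [GrpObj J] in
theorem lift_act {T : Over (B0 k)} {L E : (PicF.XT (st k X) T).Modules} (hL : (ModFun.PicDeg (st k X) 0).ok T L)
    (hE : (BunMod.USS (st k X) r 0).ok T E) (h : (BunMod.USS (st k X) r 0).ok T (CohB1.tensorMod L E)) :
    lift (ψ.app T L trivial hL) (φ.app T E trivial hE) ≫ a = φ.app T (CohB1.tensorMod L E) trivial h :=
  (ha.2 T (L, E) _ trivial ⟨hL, hE⟩ h ⟨Iso.refl _⟩).symm

end act

section act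

variable {r : ℕ} {M : Over (B0 k)} {φ : (BunMod.USS (st k X) r 0).Hom ⊤ M}
  (hM : ModFun.IsBestApprox ⊤ (BunMod.USS (st k X) r 0) M φ) {a : J ⊗ M ⟶ M}
  (ha : Jac.IsBinOpMap ψ φ φ (Jac.tensorRel (st k X)) a)

include hM ha

omit hdim [IsProper (X ↘ Spec (CommRingCat.of k))] [Smooth (X ↘ Spec (CommRingCat.of k))]
  [GeometricallyConnected (X ↘ Spec (CommRingCat.of k))] in
/-- The unit acts trivially. -/
theorem one_act : lift (toUnit M ≫ (1 : 𝟙_ (Over (B0 k)) ⟶ J)) (𝟙 M) ≫ a = 𝟙 M := by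
  refine hom_ext hM fun T E hE => ?_
  have h1 := ok_tens ha (picDeg_structure T) hE
  have h2 := lift_act ha (picDeg_structure T) hE h1
  rw [app_one hJ, app_congr φ ⟨Groth.Agent.ASBun.K791.Tens.tensLUnit E⟩ h1 hE] at h2
  rw [comp_lift_assoc, Category.comp_id, comp_toUnit_assoc, MonObj.comp_one]
  exact h2

/-- Translations. -/
theorem comp_transl {x x' : 𝟙_ (Over (B0 k)) ⟶ J} {LL : (PicF.XT (st k X) J).Modules}
    (hLL : (ModFun.PicDeg (st k X) 0).ok J LL) (hLL1 : ψ.app J LL trivial hLL = 𝟙 J) (hx : x' * x = 1) :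
    (lift (toUnit M ≫ x) (𝟙 M) ≫ a) ≫ (lift (toUnit M ≫ x') (𝟙 M) ≫ a) = 𝟙 M := by
  refine hom_ext hM fun T E hE => ?_
  have hx1 : ∀ y : 𝟙_ (Over (B0 k)) ⟶ J, ψ.app T (pl k X (toUnit T ≫ y) LL) trivial (picDeg_pull hdim _ hLL) =
      toUnit T ≫ y := by
    intro y
    rw [← app_plJ hdim ψ (toUnit T ≫ y) ⟨Iso.refl _⟩ hLL, hLL1, Category.comp_id]
  have key : ∀ (y : 𝟙_ (Over (B0 k)) ⟶ J) (F : (PicF.XT (st k X) T).Modules) (hF : (BunMod.USS (st k X) r 0).ok T F),
      φ.app T F trivial hF ≫ lift (toUnit M ≫ y) (𝟙 M) ≫ a =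
        φ.app T (CohB1.tensorMod (pl k X (toUnit T ≫ y) LL) F) trivial
          (ok_tens ha (picDeg_pull hdim _ hLL) hF) := by
    intro y F hF
    rw [← lift_act ha (picDeg_pull hdim _ hLL) hF, hx1, comp_lift_assoc, Category.comp_id, comp_toUnit_assoc]
  rw [← Category.assoc, key x E hE, key x' _ (ok_tens ha (picDeg_pull hdim _ hLL) hE), Category.comp_id]
  have h1 := picDeg_tensor hdim (picDeg_pull hdim (toUnit T ≫ x') hLL) (picDeg_pull hdim (toUnit T ≫ x) hLL)
  rw [app_congr φ ⟨(Groth.Agent.ASBun.K791.Tens.tensAssoc _ _ _).symm⟩ _ (ok_tens ha h1 hE), ← lift_act ha h1 hE,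
    app_tensorJ hdim hJ (picDeg_pull hdim (toUnit T ≫ x') hLL) (picDeg_pull hdim (toUnit T ≫ x) hLL), hx1, hx1,
    ← MonObj.comp_mul, hx, MonObj.comp_one]
  have h2 := lift_act ha (picDeg_structure T) hE (ok_tens ha (picDeg_structure T) hE)
  rw [app_one hJ, app_congr φ ⟨Groth.Agent.ASBun.K791.Tens.tensLUnit E⟩ _ hE] at h2
  exact h2

/-- Translations are isomorphisms. -/
theorem isIso_transl {LL : (PicF.XT (st k X) J).Modules}
    (hLL : (ModFun.PicDeg (st k X) 0).ok J LL) (hLL1 : ψ.app J LL trivial hLL = 𝟙 J)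
    (x : 𝟙_ (Over (B0 k)) ⟶ J) : IsIso (lift (toUnit M ≫ x) (𝟙 M) ≫ a) :=
  ⟨lift (toUnit M ≫ x⁻¹) (𝟙 M) ≫ a, comp_transl hdim hJ hM ha hLL hLL1 (inv_mul_cancel x),
    comp_transl hdim hJ hM ha hLL hLL1 (mul_inv_cancel x)⟩

end act

end curve

end K319.Teq
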