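import Groth.Agent.BunMod.K319.Seesaw
import Groth.Agent.BunMod.K319.Teq
import Groth.Agent.BunMod.K824.Join
import Groth.Agent.BunMod.K757.SubDet

/-!
# Bundles with the same determinant are linked
-/

set_option autoImplicit false
universe u

open CategoryTheory CategoryTheory.Limits AlgebraicGeometry MonoidalCategory CartesianMonoidalCategory

namespace K319.LnkE1

open K140.BM K319.SumFam K319.Sect K319.Teq K319.Seesaw K518.Phi

section aff

variable (k : Type u) [Field k]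

/-- The affine line as the spectrum of the polynomial ring. -/
noncomputable def toAS : K824.Join.sA k (Polynomial k) ⟶ AS k 1 :=
  Over.homMk (Spec.map (CommRingCat.ofHom (MvPolynomial.uniqueAlgEquiv k (ULift.{u} (Fin 1))).toRingHom) ≫
    (AffineSpace.SpecIso (ULift.{u} (Fin 1)) (CommRingCat.of k)).inv) (by
      change (_ ≫ _) ≫ 𝔸(ULift.{u} (Fin 1); Spec (CommRingCat.of k)) ↘ Spec (CommRingCat.of k) = _
      rw [Category.assoc, AffineSpace.SpecIso_inv_over, ← Spec.map_comp, ← CommRingCat.ofHom_comp]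
      congr 2
      ext x
      simp)

instance : IsIso (toAS k).left := by
  have h1 : IsIso (CommRingCat.ofHom (MvPolynomial.uniqueAlgEquiv k (ULift.{u} (Fin 1))).toRingHom) :=
    (RingEquiv.toCommRingCatIso (MvPolynomial.uniqueAlgEquiv k (ULift.{u} (Fin 1))).toRingEquiv).isIso_hom
  have : IsIso (Spec.map (CommRingCat.ofHom
      (MvPolynomial.uniqueAlgEquiv k (ULift.{u} (Fin 1))).toRingHom)) := inferInstance
  exact inferInstanceAs (IsIso (_ ≫ _))

/-- The open subscheme `D(f)` of the affine line. -/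
noncomputable def dfi (f : Polynomial k) : K824.Join.sA k (Localization.Away f) ⟶ K824.Join.sA k (Polynomial k) :=
  Over.homMk (Spec.map (CommRingCat.ofHom (algebraMap (Polynomial k) (Localization.Away f)))) (by
    change Spec.map _ ≫ Spec.map _ = Spec.map _
    rw [← Spec.map_comp, ← CommRingCat.ofHom_comp])

theorem lnk_of_map {M : Over (Spec (CommRingCat.of k))} (f : Polynomial k)
    (g : K824.Join.sA k (Localization.Away f) ⟶ M) (p q : Pt (K824.Join.sA k (Localization.Away f))) :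
    Lnk M (p ≫ g) (q ≫ g) := by
  refine ⟨1, _, dfi k f ≫ toAS k, ?_, g, p, q, rfl, rfl⟩
  have : IsOpenImmersion (dfi k f).left := 
    inferInstanceAs (IsOpenImmersion (Spec.map (CommRingCat.ofHom (algebraMap (Polynomial k) (Localization.Away f)))))
  exact inferInstanceAs (IsOpenImmersion ((dfi k f).left ≫ (toAS k).left))

end aff

section main

variable {k : Type u} [Field k] [IsAlgClosed k] {X : Scheme.{u}} [X.Over (Spec (CommRingCat.of k))]
  [IsProper (X ↘ Spec (CommRingCat.of k))] [Smooth (X ↘ Spec (CommRingCat.of k))]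
  [GeometricallyConnected (X ↘ Spec (CommRingCat.of k))] (hdim : topologicalKrullDim ↥X = 1)
  {J : Over (B0 k)} [GrpObj J] {ψ : (ModFun.PicDeg (st k X) 0).Hom ⊤ J} (hJ : Jac.IsJacobian (st k X) ⊤ J ψ)
  {r : ℕ} (hr : 1 ≤ r) {M : Over (B0 k)} {φ : (BunMod.USS (st k X) r 0).Hom ⊤ M}
  (hM : BunMod.IsModSS (st k X) ⊤ r 0 M φ) {d : M ⟶ J}
  (hd : BunMod.IsDetMap (st k X) (BunMod.ussOK (st k X) r 0) φ 0 ψ d)

omit [IsAlgClosed k] in
include hdim in
/-- The degree of a constant family. -/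
theorem deg_of_cst {L : X.Modules} (hL : PicF.IsInvertible L)
    (h : (ModFun.PicDeg (st k X) 0).ok (Over.mk (𝟙 (B0 k))) (cst k (Over.mk (𝟙 (B0 k))) L)) :
    Curv2.deg k X L 1 = 0 := by
  have h1 := K757.SubDet.picDeg_cst (f := st k X) hdim hL (d := Curv2.deg k X L 1) rfl (Over.mk (𝟙 (B0 k)))
  obtain ⟨i1, h1⟩ := (K704.PicD.ok_iff (st k X) hdim _ _ _).1 h1
  obtain ⟨i2, h2⟩ := (K704.PicD.ok_iff (st k X) hdim _ _ _).1 h
  let t : (Over.mk (𝟙 (B0 k))).left := (default : PrimeSpectrum k)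
  exact (h1 t).symm.trans (h2 t)

include hdim hJ hr hM hd in
/-- **Points of the moduli space with the same determinant are linked.** -/
theorem lnk {x y : Pt M} (h : x ≫ d = y ≫ d) : Lnk M x y := by
  obtain ⟨F₀, h₀, rfl⟩ := (hM.2.2 k (𝟙 (B0 k)) trivial).1 x
  obtain ⟨F₁, h₁, rfl⟩ := (hM.2.2 k (𝟙 (B0 k)) trivial).1 y
  obtain ⟨D₀, hi₀, hD₀⟩ := K757.DetM0.exists_det h₀.2.1
  obtain ⟨D₁, hi₁, hD₁⟩ := K757.DetM0.exists_det h₁.2.1
  have ok₀ : (ModFun.PicDeg (st k X) 0).ok (Over.mk (𝟙 (B0 k))) D₀ := K757.DetM0.picDeg_det hdim h₀.2 hD₀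
  have ok₁ : (ModFun.PicDeg (st k X) 0).ok (Over.mk (𝟙 (B0 k))) D₁ := K757.DetM0.picDeg_det hdim h₁.2 hD₁
  have e₀ := K757.DetM0.dm_eq hd h₀ hD₀ ok₀
  have e₁ := K757.DetM0.dm_eq hd h₁ hD₁ ok₁
  obtain ⟨e⟩ := nonempty_iso_of_app hdim hJ ok₀ ok₁ (e₀.symm.trans (h.trans e₁))
  obtain ⟨L, ⟨eL⟩⟩ := K824.Join.exists_model D₀
  have hL0 : (ModFun.PicDeg (st k X) 0).ok (Over.mk (𝟙 (B0 k))) (cst k (Over.mk (𝟙 (B0 k))) L) :=
    K757.Geo.picDeg_r (K757.Fam.r_of_iso _ ⟨eL.symm⟩) ok₀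
  have hiso : IsIso (pullback.fst (st k X) (Over.mk (𝟙 (B0 k))).hom) :=
    inferInstanceAs (IsIso (pullback.fst (st k X) (𝟙 (B0 k))))
  have hLinv : PicF.IsInvertible L := by
    have h1 := K757.Fam.inv_pull (inv (pullback.fst (st k X) (Over.mk (𝟙 (B0 k))).hom))
      (K757.Geo.picDeg_ok_iff.1 hL0).1
    rw [← K707.TensL.rank_one_iff] at h1 ⊢
    refine K451.DetPic.rank_of_iso ?_ h1
    exact (Scheme.Modules.pullbackComp _ _).app L ≪≫ (Scheme.Modules.pullbackCongr (IsIso.inv_hom_id _)).app L ≪≫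
      (Scheme.Modules.pullbackId _).app L
  have hdeg := deg_of_cst hdim hLinv hL0
  have k₀ : BunMod.ussDetOK (st k X) r L (Over.mk (𝟙 (B0 k))) F₀ :=
    ⟨h₀.2.1, ⟨D₀, hD₀, K757.Fam.r_of_iso _ ⟨eL⟩⟩, h₀.2.2.2⟩
  have k₁ : BunMod.ussDetOK (st k X) r L (Over.mk (𝟙 (B0 k))) F₁ :=
    ⟨h₁.2.1, ⟨D₁, hD₁, K757.Fam.r_of_iso _ ⟨eL ≪≫ e⟩⟩, h₁.2.2.2⟩
  obtain ⟨f, w₀, w₁, F, -, hF, hw₀, hw₁⟩ := K824.Join.exists_family k X hdim hr hdeg k₀ k₁
  have hF' : (BunMod.USS (st k X) r 0).ok _ F := ⟨trivial, K757.SubDet.ussOK_of_det hdim hLinv hdeg hF⟩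
  rw [← app_pl φ w₀ hw₀ hF' h₀, ← app_pl φ w₁ hw₁ hF' h₁]
  exact lnk_of_map k f _ w₀ w₁

end main

end K319.LnkE1
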