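import Groth.Agent.BunMod.K319.FromAtl
import Groth.Agent.BunMod.K319.IntM
import Groth.Agent.BunMod.K319.LnkE1

/-!
# The inputs of the tensor product theorem from an atlas
-/

set_option autoImplicit false
universe u

open CategoryTheory CategoryTheory.Limits AlgebraicGeometry MonoidalCategory CartesianMonoidalCategory

namespace K319.InpAtl

open K140.BM K319.SumFam K319.Sect K319.Main K518.Phi K319.Seesaw

variable {k : Type u} [Field k] [IsAlgClosed k] {X : Scheme.{u}} [X.Over (Spec (CommRingCat.of k))]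
  [IsProper (X ↘ Spec (CommRingCat.of k))] [Smooth (X ↘ Spec (CommRingCat.of k))]
  [GeometricallyConnected (X ↘ Spec (CommRingCat.of k))] (hdim : topologicalKrullDim ↥X = 1)
  {J : Over (B0 k)} [GrpObj J] [IsCommMonObj J] {ψ : (ModFun.PicDeg (st k X) 0).Hom ⊤ J}
  (hJ : Jac.IsJacobian (st k X) ⊤ J ψ)

theorem normal_of_iso {Y Z : Scheme.{u}} (f : Y ⟶ Z) [IsIso f] (hY : Pi1.IsNormalScheme Y) : Pi1.IsNormalScheme Z := by
  intro z
  obtain ⟨y, rfl⟩ : ∃ y, f y = z := ⟨inv f z, by rw [← Scheme.Hom.comp_apply, IsIso.inv_hom_id]; rfl⟩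
  have e : Z.presheaf.stalk (f y) ≃+* Y.presheaf.stalk y := (asIso (f.stalkMap y)).commRingCatIsoToRingEquiv
  have h1 := (hY y).1
  have h2 := (hY y).2
  have h3 : IsDomain (Z.presheaf.stalk (f y)) := e.toMulEquiv.isDomain _
  exact ⟨h3, IsIntegrallyClosed.of_equiv e.symm⟩

omit [IsCommMonObj J] in
include hdim hJ in
/-- The moduli space is connected. -/
theorem connectedSpace {r : ℕ} (hr : 1 ≤ r) {M : Over (B0 k)} {φ : (BunMod.USS (st k X) r 0).Hom ⊤ M}
    (hM : BunMod.IsModSS (st k X) ⊤ r 0 M φ) {d : M ⟶ J}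
    (hd : BunMod.IsDetMap (st k X) (BunMod.ussOK (st k X) r 0) φ 0 ψ d) [LocallyOfFiniteType M.hom] :
    ConnectedSpace M.left := by
  obtain ⟨n, rfl⟩ : ∃ n, r = n + 1 := ⟨r - 1, by omega⟩
  obtain ⟨-, hp, hgi, -⟩ := K532.ThetaAmple.exists_setup hdim hJ
  obtain ⟨LL, hLL, hLL1⟩ := exists_univ hdim hJ
  have hi := K319.Core.isIntegral_left J
  have hs : sec hdim hLL φ ≫ d = 𝟙 J := (app_det hd hLL (ok_ds hdim hLL)).trans hLL1
  refine K319.ConnM.connectedSpace d (sec hdim hLL φ) fun y => K319.LnkE1.lnk hdim hJ hr hM hd ?_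
  rw [Category.assoc, Category.assoc, hs, Category.comp_id]

include hdim hJ in
omit [IsCommMonObj J] in
/-- **The inputs from an atlas.** -/
theorem inp {r : ℕ} (hr : 1 ≤ r) {M : Over (B0 k)} {φ : (BunMod.USS (st k X) r 0).Hom ⊤ M}
    (hM : BunMod.IsModSS (st k X) ⊤ r 0 M φ) {d : M ⟶ J}
    (hd : BunMod.IsDetMap (st k X) (BunMod.ussOK (st k X) r 0) φ 0 ψ d)
    (A : AtlasC k X (BunMod.ussOK (st k X) r 0)) (φA : (BunMod.USS (st k X) r 0).Hom ⊤ A.M)
    (hφA : ∀ (T : Over (B0 k)) (c : T ⟶ A.Z) (h : (BunMod.USS (st k X) r 0).ok T (pl k X c A.E)),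
      φA.app T (pl k X c A.E) trivial h = c ≫ A.π)
    (hA : ModFun.IsBestApprox ⊤ (BunMod.USS (st k X) r 0) A.M φA) (hn : Pi1.IsNormalScheme A.M.left)
    {N : X.Modules} (hθ : IsTheta φ N) : Inp φ N := by
  obtain ⟨e, -⟩ := K757.HomOver.exists_iso hA hM.2.1
  have hiso : IsIso e.hom.left := inferInstanceAs (IsIso ((Over.forget _).map e.hom))
  have hiso' : IsIso e.inv.left := inferInstanceAs (IsIso ((Over.forget _).map e.inv))
  have hprop : IsProper M.hom := by
    have := A.prop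
    rw [← Over.w e.inv]
    infer_instance
  have hN := normal_of_iso e.hom.left hn
  have hc := connectedSpace hdim hJ hr hM hd
  exact ⟨hprop, (K319.IntM.geomInt hN).2, hN, hθ, K319.FromAtl.hasTest A φA hφA hA hM.2.1⟩

end K319.InpAtl
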