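import Mathlib.RingTheory.IntegralClosure.IntegrallyClosed
import Mathlib.RingTheory.Polynomial.ScaleRoots
import Mathlib.RingTheory.LocalProperties.Basic
import Mathlib.RingTheory.Localization.Integral
import Groth.Agent.BunMod.K140.Defs3
import Groth.Agent.BunMod.K562.LocRad

/-!
# The quotient of a normal atlas is normal

`K319.NormM.ring`: a ring `A` which is a retract, as an `A`-module, of a normal ring `B` (all local rings are integrally
closed domains) is normal.  `K319.NormM.main`: the quotient `A.M` of an atlas with Reynolds operators is normal if `A.Z` is;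
`K319.NormM.of_smooth`: in particular if `A.Z` is smooth over the field.
-/

set_option autoImplicit false
universe u
open CategoryTheory CategoryTheory.Limits AlgebraicGeometry Polynomial

namespace K319.NormM

theorem dvd_of {A D : Type u} [CommRing A] [CommRing D] [IsDomain D] [IsIntegrallyClosed D] (φ : A →+* D) {p : A[X]}
    (hp : p.Monic) (a b : A) (h : φ (eval a (scaleRoots p b)) = 0) : φ b ∣ φ a := by
  by_cases hb : φ b = 0
  · have h1 : eval₂ φ (φ a) (scaleRoots p b) = 0 := by rw [eval₂_at_apply, h]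
    have h2 : φ a = 0 := by
      by_contra ha
      have h3 : eval₂ φ (φ a) (scaleRoots p b) = φ a ^ p.natDegree := by
        rw [eval₂_eq_sum_range, natDegree_scaleRoots, Finset.sum_range_succ, Finset.sum_eq_zero, zero_add,
          coeff_scaleRoots_natDegree, hp.leadingCoeff, map_one, one_mul]
        intro i hi
        rw [Finset.mem_range] at hi
        rw [coeff_scaleRoots, map_mul, map_pow, hb, zero_pow (by omega), mul_zero, zero_mul]
      rw [h3] at h1
      exact ha (eq_zero_of_pow_eq_zero h1)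
    rw [h2]
    exact dvd_zero _
  · let K := FractionRing D
    have hb' : algebraMap D K (φ b) ≠ 0 := by
      rwa [Ne, FaithfulSMul.algebraMap_eq_zero_iff]
    let f : A →+* K := (algebraMap D K).comp φ
    let y : K := f a / f b
    have hfb : f b ≠ 0 := hb'
    have h1 : eval₂ f (f b * y) (scaleRoots p b) = f b ^ p.natDegree * eval₂ f y p := scaleRoots_eval₂_mul f y b
    rw [show f b * y = f a from mul_div_cancel₀ _ hfb, eval₂_at_apply] at h1
    have h2 : f (eval a (scaleRoots p b)) = 0 := by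
      change algebraMap D K (φ _) = 0
      rw [h, map_zero]
    rw [h2] at h1
    have h3 : eval₂ f y p = 0 := (mul_eq_zero.1 h1.symm).resolve_left (pow_ne_zero _ hfb)
    have h4 : IsIntegral D y := by
      refine ⟨p.map φ, hp.map φ, ?_⟩
      rw [eval₂_map]
      exact h3
    obtain ⟨c, hc⟩ := IsIntegrallyClosed.isIntegral_iff.1 h4
    refine ⟨c, ?_⟩
    apply IsFractionRing.injective D K
    rw [map_mul, hc]
    exact (mul_div_cancel₀ _ hfb).symm

section ring

variable {A B : Type u} [CommRing A] [CommRing B] [Algebra A B] (r : B →ₗ[A] A) (hr : ∀ a, r (algebraMap A B a) = a)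
  (hB : ∀ (Q : Ideal B) [Q.IsPrime], IsDomain (Localization.AtPrime Q) ∧ IsIntegrallyClosed (Localization.AtPrime Q))
  (P : Ideal A) [P.IsPrime]

omit [P.IsPrime] in
theorem lin_aux (a : A) (x : B) : r (algebraMap A B a * x) = a * r x := by
  rw [← Algebra.smul_def, map_smul, smul_eq_mul]

include hr hB

theorem split (a b : A) (h : a * b = 0) : ∃ v ∉ P, v * a = 0 ∨ v * b = 0 := by
  have hsup : (LinearMap.ker (LinearMap.mulRight B (algebraMap A B a)) : Ideal B) ⊔
      LinearMap.ker (LinearMap.mulRight B (algebraMap A B b)) = ⊤ := by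
    by_contra hne
    obtain ⟨Q, hQ, hle⟩ := Ideal.exists_le_maximal _ hne
    have := hQ.isPrime
    have := (hB Q).1
    have h1 : algebraMap B (Localization.AtPrime Q) (algebraMap A B a) *
        algebraMap B (Localization.AtPrime Q) (algebraMap A B b) = 0 := by
      rw [← map_mul, ← map_mul, h, map_zero, map_zero]
    rcases mul_eq_zero.1 h1 with h2 | h2
    · obtain ⟨v, hv⟩ := (IsLocalization.map_eq_zero_iff Q.primeCompl _ _).1 h2
      exact v.2 (hle (Submodule.mem_sup_left (LinearMap.mem_ker.2 hv)))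
    · obtain ⟨v, hv⟩ := (IsLocalization.map_eq_zero_iff Q.primeCompl _ _).1 h2
      exact v.2 (hle (Submodule.mem_sup_right (LinearMap.mem_ker.2 hv)))
  obtain ⟨x, hx, y, hy, hxy⟩ := Submodule.mem_sup.1 (hsup ▸ Submodule.mem_top : (1 : B) ∈ _)
  have hx' : x * algebraMap A B a = 0 := LinearMap.mem_ker.1 hx
  have hy' : y * algebraMap A B b = 0 := LinearMap.mem_ker.1 hy
  have h1 : r x + r y = 1 := by rw [← map_add, hxy, ← map_one (algebraMap A B), hr]
  have h2 : r x * a = 0 := by rw [mul_comm, ← lin_aux r, mul_comm, hx', map_zero]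
  have h3 : r y * b = 0 := by rw [mul_comm, ← lin_aux r, mul_comm, hy', map_zero]
  by_cases hxP : r x ∈ P
  · have hyP : r y ∉ P := fun hyP => Ideal.IsPrime.ne_top ‹P.IsPrime› ((Ideal.eq_top_iff_one _).2 (h1 ▸ P.add_mem hxP hyP))
    exact ⟨r y, hyP, Or.inr h3⟩
  · exact ⟨r x, hxP, Or.inl h2⟩

theorem isDomain : IsDomain (Localization.AtPrime P) := by
  have h0 : NoZeroDivisors (Localization.AtPrime P) := by
    refine ⟨fun {x y} hxy => ?_⟩
    obtain ⟨⟨a, s⟩, rfl⟩ := IsLocalization.mk'_surjective P.primeCompl x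
    obtain ⟨⟨b, t⟩, rfl⟩ := IsLocalization.mk'_surjective P.primeCompl y
    change IsLocalization.mk' _ a s * IsLocalization.mk' _ b t = 0 at hxy
    rw [← IsLocalization.mk'_mul, IsLocalization.mk'_eq_zero_iff] at hxy
    obtain ⟨u, hu⟩ := hxy
    obtain ⟨v, hv, h⟩ := split r hr hB P (u.1 * a) b (by rw [mul_assoc]; exact hu)
    rcases h with h | h
    · left
      change IsLocalization.mk' _ a s = 0
      rw [IsLocalization.mk'_eq_zero_iff]
      exact ⟨⟨v, hv⟩ * u, by rw [Submonoid.coe_mul, mul_assoc]; exact h⟩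
    · right
      change IsLocalization.mk' _ b t = 0
      rw [IsLocalization.mk'_eq_zero_iff]
      exact ⟨⟨v, hv⟩, h⟩
  exact NoZeroDivisors.to_isDomain _

theorem isIntegrallyClosed : IsIntegrallyClosed (Localization.AtPrime P) := by
  have hD := isDomain r hr hB P
  let AP := Localization.AtPrime P
  let K := FractionRing AP
  rw [isIntegrallyClosed_iff K]
  intro x hx
  obtain ⟨m, hm⟩ := IsIntegral.exists_multiple_integral_of_isLocalization (Rₘ := AP) P.primeCompl x hx
  -- `x = f / g` with numerators in `A`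
  obtain ⟨f', g', hg', hx'⟩ := IsFractionRing.div_surjective (A := AP) x
  obtain ⟨⟨f, s⟩, rfl⟩ := IsLocalization.mk'_surjective P.primeCompl f'
  obtain ⟨⟨g, t⟩, rfl⟩ := IsLocalization.mk'_surjective P.primeCompl g'
  have hinj : Function.Injective (algebraMap AP K) := IsFractionRing.injective AP K
  let a : A := m * (f * t)
  let b : A := g * s
  let y : K := m • x
  have hs : ∀ q : P.primeCompl, algebraMap A K q ≠ 0 := by
    intro q h0
    rw [IsScalarTower.algebraMap_apply A AP K, ← map_zero (algebraMap AP K)] at h0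
    exact (IsLocalization.map_units AP q).ne_zero (hinj h0)
  have hmk : ∀ (c : A) (q : P.primeCompl), algebraMap AP K (IsLocalization.mk' AP c q) * algebraMap A K q =
      algebraMap A K c := by
    intro c q
    rw [IsScalarTower.algebraMap_apply A AP K, ← map_mul, IsLocalization.mk'_spec, ← IsScalarTower.algebraMap_apply]
  have hg0 : algebraMap AP K (IsLocalization.mk' AP g t) ≠ 0 := by
    rw [← map_zero (algebraMap AP K)]
    exact fun h => nonZeroDivisors.ne_zero hg' (hinj h)
  have hxg : x * algebraMap A K b = algebraMap A K (f * t) := by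
    have h1 : x * algebraMap AP K (IsLocalization.mk' AP g t) = algebraMap AP K (IsLocalization.mk' AP f s) := by
      rw [← hx', div_mul_cancel₀ _ hg0]
    rw [map_mul, map_mul, ← hmk g t, ← hmk f s, ← h1]
    ring
  have hy : algebraMap A K b * y = algebraMap A K a := by
    change algebraMap A K b * ((m : A) • x) = algebraMap A K (m * (f * t))
    rw [Algebra.smul_def, map_mul _ (m : A), ← hxg]
    ring
  have hb0 : algebraMap A K b ≠ 0 := by
    intro h0
    rw [map_mul] at h0
    rcases mul_eq_zero.1 h0 with h1 | h1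
    · apply hg0
      have h2 := hmk g t
      rw [h1] at h2
      exact (mul_eq_zero.1 h2).resolve_right (hs t)
    · exact hs s h1
  obtain ⟨p, hp, hpy⟩ := hm
  have h1 : algebraMap A K (eval a (scaleRoots p b)) = 0 := by
    rw [← eval₂_at_apply, ← hy]
    exact scaleRoots_eval₂_eq_zero _ hpy
  have h2 : algebraMap A AP (eval a (scaleRoots p b)) = 0 := by
    apply hinj
    rw [← IsScalarTower.algebraMap_apply, h1, map_zero]
  obtain ⟨u, hu⟩ := (IsLocalization.map_eq_zero_iff P.primeCompl AP _).1 h2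
  have h3 : Ideal.span {algebraMap A B (u * a)} ≤ Ideal.span {algebraMap A B (u * b)} := by
    apply Ideal.le_of_localization_maximal
    intro Q hQ
    have := hQ.isPrime
    obtain ⟨i1, i2⟩ := hB Q
    rw [Ideal.map_span, Ideal.map_span, Set.image_singleton, Set.image_singleton, Ideal.span_singleton_le_span_singleton]
    let φ : A →+* Localization.AtPrime Q := (algebraMap B _).comp (algebraMap A B)
    change φ (u * b) ∣ φ (u * a)
    rw [map_mul _ (u : A) a, map_mul _ (u : A) b]
    have h4 : φ u * φ (eval a (scaleRoots p b)) = 0 := by rw [← map_mul, hu, map_zero]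
    rcases mul_eq_zero.1 h4 with h5 | h5
    · rw [h5, zero_mul, zero_mul]
    · exact mul_dvd_mul_left _ (dvd_of φ hp a b h5)
  obtain ⟨c, hc⟩ := Ideal.mem_span_singleton'.1 (h3 (Ideal.mem_span_singleton_self _))
  have h4 : u * a = u * b * r c := by
    rw [← lin_aux r, mul_comm (algebraMap A B (u * b)) c, hc, hr]
  have h5 : algebraMap A K a = algebraMap A K b * algebraMap A K (r c) := by
    have h6 := congrArg (algebraMap A K) h4
    rw [map_mul _ (u : A) a, map_mul _ (u * b) (r c), map_mul _ (u : A) b, mul_assoc] at h6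
    exact mul_left_cancel₀ (hs u) h6
  have h6 : y = algebraMap A K (r c) := by
    apply mul_left_cancel₀ hb0
    rw [hy, h5]
  refine ⟨IsLocalization.mk' AP (r c) m, ?_⟩
  apply mul_right_cancel₀ (hs m)
  rw [hmk, ← h6]
  change (m : A) • x = _
  rw [Algebra.smul_def, mul_comm]

end ring

theorem stalk {Y : Scheme.{u}} {U : Y.Opens} (hU : IsAffineOpen U) (y : Y) (hy : y ∈ U)
    (h : IsDomain (Localization.AtPrime (hU.primeIdealOf ⟨y, hy⟩).asIdeal) ∧
      IsIntegrallyClosed (Localization.AtPrime (hU.primeIdealOf ⟨y, hy⟩).asIdeal)) :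
    IsDomain (Y.presheaf.stalk y) ∧ IsIntegrallyClosed (Y.presheaf.stalk y) := by
  let _ := Y.presheaf.algebra_section_stalk ⟨y, hy⟩
  have hloc := hU.isLocalization_stalk ⟨y, hy⟩
  let e := (IsLocalization.algEquiv (hU.primeIdealOf ⟨y, hy⟩).asIdeal.primeCompl (Y.presheaf.stalk y)
    (Localization.AtPrime (hU.primeIdealOf ⟨y, hy⟩).asIdeal)).toRingEquiv
  obtain ⟨h1, h2⟩ := h
  have hd : IsDomain (Y.presheaf.stalk y) := e.toMulEquiv.isDomain _
  exact ⟨hd, IsIntegrallyClosed.of_equiv e.symm⟩

theorem of_stalk {Y : Scheme.{u}} (hY : Pi1.IsNormalScheme Y) {U : Y.Opens} (hU : IsAffineOpen U)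
    (Q : Ideal Γ(Y, U)) [hQ : Q.IsPrime] :
    IsDomain (Localization.AtPrime Q) ∧ IsIntegrallyClosed (Localization.AtPrime Q) := by
  let z : PrimeSpectrum Γ(Y, U) := ⟨Q, hQ⟩
  have hzU : hU.fromSpec z ∈ U := by
    have h1 : hU.fromSpec z ∈ Set.range hU.fromSpec := ⟨z, rfl⟩
    rwa [hU.range_fromSpec] at h1
  have hpz : hU.primeIdealOf ⟨hU.fromSpec z, hzU⟩ = z :=
    hU.fromSpec.isOpenEmbedding.injective (hU.fromSpec_primeIdealOf ⟨hU.fromSpec z, hzU⟩)
  let _ := Y.presheaf.algebra_section_stalk ⟨hU.fromSpec z, hzU⟩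
  have hloc := hU.isLocalization_stalk ⟨hU.fromSpec z, hzU⟩
  rw [hpz] at hloc
  have hloc' : IsLocalization.AtPrime (Y.presheaf.stalk (hU.fromSpec z)) Q := hloc
  obtain ⟨h1, h2⟩ := hY (hU.fromSpec z)
  let e := (IsLocalization.algEquiv Q.primeCompl (Y.presheaf.stalk (hU.fromSpec z)) (Localization.AtPrime Q)).toRingEquiv
  have hd : IsDomain (Localization.AtPrime Q) := e.symm.toMulEquiv.isDomain _
  exact ⟨hd, IsIntegrallyClosed.of_equiv e⟩

/-- **The quotient is normal.** -/
theorem main {k : Type u} [Field k] {X : Scheme.{u}} [X.Over (Spec (CommRingCat.of k))]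
    {Q : ∀ T : Over (K140.BM.B0 k), (ModFun.modProb (K140.BM.st k X)).Fam T → Prop} (A : K140.BM.AtlasC k X Q)
    (hZ : Pi1.IsNormalScheme A.Z.left) : Pi1.IsNormalScheme A.M.left := by
  intro m
  obtain ⟨V, hmV, hV, hR⟩ := A.charts m
  obtain ⟨ρ, h1, h2, h3, -⟩ := hR
  have hinj := (A.functions V hV).1
  have := A.aff
  let _ : Algebra Γ(A.M.left, V) Γ(A.Z.left, A.π.left ⁻¹ᵁ V) := (A.π.left.app V).hom.toAlgebra
  choose σ hσ using h1
  let r : Γ(A.Z.left, A.π.left ⁻¹ᵁ V) →ₗ[Γ(A.M.left, V)] Γ(A.M.left, V) :=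
    { toFun := σ
      map_add' := fun x y => hinj (by rw [hσ, map_add, map_add, hσ, hσ])
      map_smul' := fun a x => hinj (by
        rw [RingHom.id_apply, smul_eq_mul, map_mul, hσ, hσ]
        exact h3 a x) }
  have hr : ∀ a, r (algebraMap _ Γ(A.Z.left, A.π.left ⁻¹ᵁ V) a) = a := fun a => hinj ((hσ _).trans (h2 a))
  have hB : ∀ (Q : Ideal Γ(A.Z.left, A.π.left ⁻¹ᵁ V)) [Q.IsPrime],
      IsDomain (Localization.AtPrime Q) ∧ IsIntegrallyClosed (Localization.AtPrime Q) :=
    fun Q _ => of_stalk hZ (hV.preimage A.π.left) Q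
  exact stalk hV m hmV ⟨isDomain r hr hB _, isIntegrallyClosed r hr hB _⟩

theorem of_smooth {k : Type u} [Field k] {X : Scheme.{u}} [X.Over (Spec (CommRingCat.of k))]
    {Q : ∀ T : Over (K140.BM.B0 k), (ModFun.modProb (K140.BM.st k X)).Fam T → Prop} (A : K140.BM.AtlasC k X Q)
    [Smooth A.Z.hom] : Pi1.IsNormalScheme A.M.left :=
  main A K562.LocRad.isNormal

end K319.NormM
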