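import Groth.Agent.BunMod.K757.TwistUSS
import Groth.Agent.BunMod.K319.Teq

/-!
# The action of the Jacobian as a binary operation map
-/

set_option autoImplicit false
universe u

open CategoryTheory CategoryTheory.Limits AlgebraicGeometry MonoidalCategory CartesianMonoidalCategory MonObj

namespace K319.ActBin

open K140.BM K757.HomOver K757.TwistUSS K757.Act K757.Fam

variable {k : Type u} [Field k] {X : Scheme.{u}} [X.Over (Spec (CommRingCat.of k))]
  [IsProper (X ↘ Spec (CommRingCat.of k))] [Smooth (X ↘ Spec (CommRingCat.of k))]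
  [GeometricallyConnected (X ↘ Spec (CommRingCat.of k))] (hdim : topologicalKrullDim ↥X = 1)
  {J : Over (B0 k)} [GrpObj J] {ψ : (ModFun.PicDeg (st k X) 0).Hom ⊤ J} {r : ℕ} {M : Over (B0 k)}
  {φ : (BunMod.USS (st k X) r 0).Hom ⊤ M}

include hdim in
/-- **The action `J ⊗ M ⟶ M` is induced by the tensor product.** -/
theorem exists_isBinOpMap (hφ : UnivBest φ) (D : FineJ (st k X) J ψ) :
    ∃ a : J ⊗ M ⟶ M, Jac.IsBinOpMap ψ φ φ (Jac.tensorRel (st k X)) a := by
  refine ⟨lift (snd J M) (fst J M) ≫ act hφ (D.twist hdim r 0), fun T L E _ hL hE => ?_, fun T p G _ hp hG hr => ?_⟩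
  · have h := K757.Geo.ussOK_tw (e := 0) hdim hE.2 hL
    rw [mul_zero, add_zero] at h
    exact ⟨CohB1.tensorMod L E, ⟨trivial, K757.Geo.ussOK_iso (K757.Fam.tens_comm _ _) h⟩, ⟨Iso.refl _⟩⟩
  · obtain ⟨L, E⟩ := p
    obtain ⟨hL, hE⟩ := hp
    have h1 := act_app hφ (D.twist hdim r 0) E hE (ψ.app T L trivial hL)
    have h2 : (ModFun.modProb (st k X)).r T (CohB1.tensorMod E (D.at' (ψ.app T L trivial hL))) G :=
      r_trans (r_tens' (D.fine T L hL) E) (r_trans (r_of_iso _ (tens_comm E L))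
        (r_symm (r_of_iso _ hr)))
    change φ.app T G _ hG = lift (ψ.app T L trivial hL) (φ.app T E trivial hE) ≫
      lift (snd J M) (fst J M) ≫ act hφ (D.twist hdim r 0)
    rw [comp_lift_assoc, lift_snd, lift_fst, h1]
    exact (φ.resp _ _ trivial _ _ h2).symm

end K319.ActBin
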