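import Groth.Agent.BunMod.K319.Seesaw

/-!
# Linked points and connectedness

If every point `y` of `M` is linked to the point `s (d y)` of a connected subspace `s : J ⟶ M` then `M` is connected.
-/

set_option autoImplicit false
universe u

open CategoryTheory Limits MonoidalCategory CartesianMonoidalCategory AlgebraicGeometry TopologicalSpace
open K518.Phi K319.Seesaw

namespace K319.ConnM

variable {k : Type u} [Field k]

/-- The point of the space under a rational point. -/
noncomputable def pt {M : Over (Spec (CommRingCat.of k))} (x : Pt M) : M.left := x.left (IsLocalRing.closedPoint k)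

theorem pt_comp {M N : Over (Spec (CommRingCat.of k))} (x : Pt M) (f : M ⟶ N) : pt (x ≫ f) = f.left (pt x) := by
  rw [pt, Over.comp_left]
  rfl

theorem mem_of_mem {M : Over (Spec (CommRingCat.of k))} {a : M.left} {x : Pt M} (h : a ∈ Set.range x.left) :
    a = pt x := by
  obtain ⟨t, rfl⟩ := h
  exact congrArg x.left (Subsingleton.elim (α := PrimeSpectrum k) t _)

/-- Linked points lie in the same clopen subsets. -/
theorem mem_iff_of_lnk {M : Over (Spec (CommRingCat.of k))} {x y : Pt M} (h : Lnk M x y) {U : Set M.left}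
    (hU : IsClopen U) : pt x ∈ U ↔ pt y ∈ U := by
  obtain ⟨n, W, j, hj, f, p, q, rfl, rfl⟩ := h
  have hne : Nonempty W.left := ⟨pt p⟩
  have hirr : IrreducibleSpace W.left := by
    have h1 : IsIntegral (AS k n).left :=
      inferInstanceAs (IsIntegral (𝔸(ULift.{u} (Fin n); Spec (CommRingCat.of k))))
    have h2 : IsIntegral W.left := isIntegral_of_isOpenImmersion j.left
    infer_instance
  have hc : IsClopen (f.left ⁻¹' U) := hU.preimage f.left.continuous
  rw [pt_comp, pt_comp]
  have h3 := isClopen_iff.1 hc
  change pt p ∈ f.left ⁻¹' U ↔ pt q ∈ f.left ⁻¹' U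
  rcases h3 with h3 | h3 <;> rw [h3] <;> simp

/-- **Connectedness of `M`.** -/
theorem connectedSpace [IsAlgClosed k] {M J : Over (Spec (CommRingCat.of k))} [LocallyOfFiniteType M.hom]
    [ConnectedSpace J.left] (d : M ⟶ J) (s : J ⟶ M) (h : ∀ y : Pt M, Lnk M y (y ≫ d ≫ s)) :
    ConnectedSpace M.left := by
  have hne : Nonempty M.left := ⟨s.left (Classical.arbitrary J.left)⟩
  have key : ∀ U : Set M.left, IsClopen U → s.left ⁻¹' U = Set.univ → U = Set.univ := by
    intro U hU hs
    by_contra hne'
    have hV : (Uᶜ).Nonempty := Set.nonempty_compl.2 hne'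
    obtain ⟨a, haU, w, -, haw⟩ := (dense_pts (A := M)).inter_open_nonempty Uᶜ hU.compl.isOpen hV
    rw [mem_of_mem haw] at haU
    apply haU
    rw [mem_iff_of_lnk (h w) hU, ← Category.assoc, pt_comp]
    have : pt (w ≫ d) ∈ s.left ⁻¹' U := by rw [hs]; trivial
    exact this
  refine { toPreconnectedSpace := preconnectedSpace_iff_clopen.2 fun U hU => ?_, toNonempty := hne }
  have hc : IsClopen (s.left ⁻¹' U) := hU.preimage s.left.continuous
  rcases isClopen_iff.1 hc with h1 | h1
  · left
    have h2 := key Uᶜ hU.compl (by rw [Set.preimage_compl, h1, Set.compl_empty])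
    rw [← compl_compl U, h2, Set.compl_univ]
  · right
    exact key U hU h1

end K319.ConnM
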