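import Groth.Agent.BunMod.K319.InpAtl
import Groth.Agent.BunMod.K319.ActBin
import Groth.Agent.BunMod.K319.NormM
import Groth.Agent.BunMod.K757.OnM
import Groth.Agent.BunMod.K977.Adm
import Groth.Agent.BunMod.K356.FamForm

/-!
# The tensor product theorem from the theorem on the theta ideal of an atlas

* `isTheta`: the ideal of the theta locus of ANY moduli space of semistable bundles pulls back to the theta ideal of every
  admissible family, from the same for the universal family of an atlas.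
* `main`: S16922 from an atlas, `isTheta` and the case of the Jacobian.
-/

set_option autoImplicit false
universe u
open CategoryTheory CategoryTheory.Limits AlgebraicGeometry MonoidalCategory CartesianMonoidalCategory MonObj

namespace K319.Fin

open Jac K140.BM K319.Main

variable {k : Type u} [Field k] [IsAlgClosed k] {X : Scheme.{u}} [X.Over (Spec (CommRingCat.of k))]

variable (k X) in
/-- The theta ideal of the universal family of an atlas comes from the theta locus. -/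
def OnAtlas (N : X.Modules) (r : ℕ) : Prop :=
  ∀ (A : AtlasC k X (BunMod.ussOK (st k X) r 0)) (φ : (BunMod.USS (st k X) r 0).Hom ⊤ A.M)
    (_ : ∀ (T : Over (B0 k)) (c : T ⟶ A.Z) (h : (BunMod.USS (st k X) r 0).ok T (pl k X c A.E)),
      φ.app T (pl k X c A.E) trivial h = c ≫ A.π),
    (Scheme.IdealSheafData.vanishingIdeal
      ⟨BunMod.thetaLocus (st k X) (BunMod.ussOK (st k X) r 0) φ N, isClosed_closure⟩).comap A.π.left =
      thetaIdeal k N A.Z A.E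

variable [IsProper (X ↘ Spec (CommRingCat.of k))] [Smooth (X ↘ Spec (CommRingCat.of k))]
  [GeometricallyConnected (X ↘ Spec (CommRingCat.of k))] (hdim : topologicalKrullDim ↥X = 1)

include hdim

omit [IsAlgClosed k] in
/-- **The family form on every moduli space.** -/
theorem isTheta {r : ℕ} {N : X.Modules} (hN : FlatMod.IsFinLocFree N) {M : Over (B0 k)}
    {φ : (BunMod.USS (st k X) r 0).Hom ⊤ M} (hM : ModFun.IsBestApprox ⊤ (BunMod.USS (st k X) r 0) M φ)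
    (A : AtlasC k X (BunMod.ussOK (st k X) r 0)) (h : OnAtlas k X N r) : IsTheta φ N := by
  obtain ⟨-, e, he⟩ := K757.OnM.exists_uss A hM
  intro T E hE
  exact Groth.Agent.BunMod.K356.FamForm.fam_form (K757.OnM.ofIso A e) hdim.le hN
    (fun T E hE => K707.Base.isFinLocFree_of_rank hE.1) (fun g E hE => K757.Geo.ussOK_pull g hE) φ he
    (vI φ N) (h (K757.OnM.ofIso A e) φ he) T E hE

/-- The inputs. -/
theorem inp {J : Over (B0 k)} [GrpObj J] [IsCommMonObj J] {ψ : (ModFun.PicDeg (st k X) 0).Hom ⊤ J}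
    (hJ : Jac.IsJacobian (st k X) ⊤ J ψ) {r : ℕ} (hr : 1 ≤ r) {M : Over (B0 k)}
    {φ : (BunMod.USS (st k X) r 0).Hom ⊤ M} (hM : BunMod.IsModSS (st k X) ⊤ r 0 M φ) {d : M ⟶ J}
    (hd : BunMod.IsDetMap (st k X) (BunMod.ussOK (st k X) r 0) φ 0 ψ d)
    (A : AtlasC k X (BunMod.ussOK (st k X) r 0)) {N : X.Modules} (hθ : IsTheta φ N) : Inp φ N := by
  obtain ⟨-, e, he⟩ := K757.OnM.exists_uss A hM.2.1
  have hs : Smooth A.Z.hom := K977.Adm.smooth_atlas k X hdim A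
  have hs' : Smooth (K757.OnM.ofIso A e).Z.hom := hs
  exact K319.InpAtl.inp hdim hJ hr hM hd (K757.OnM.ofIso A e) φ he hM.2.1
    (K319.NormM.of_smooth (K757.OnM.ofIso A e)) hθ

/-- **S16922** from atlases, the theorem on the theta ideals and the case of the Jacobian. -/
theorem main [CharZero k] {r m : ℕ} (hr : 1 ≤ r) (hm : 1 ≤ m) {N : X.Modules} (hN : PicF.IsInvertible N)
    (hat : ∀ n : ℕ, 1 ≤ n → Nonempty (AtlasC k X (BunMod.ussOK (st k X) n 0)))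
    (hth : ∀ n : ℕ, 1 ≤ n → OnAtlas k X N n)
    {J : Over (Spec (CommRingCat.of k))} [GrpObj J] [IsCommMonObj J]
    {ψ : (ModFun.PicDeg (X ↘ Spec (CommRingCat.of k)) 0).Hom ⊤ J}
    (hJ : Jac.IsJacobian (X ↘ Spec (CommRingCat.of k)) ⊤ J ψ) (hr1 : IsThetaJ ψ N)
    {ΘJ : J.left.Modules} (hΘJ : Jac.IsThetaLB (X ↘ Spec (CommRingCat.of k)) 0 ψ N ΘJ)
    (φJ : AgPol.DualMap J J) (hsd : Jac.IsSelfDual Scheme.fppfPrecoverage J φJ ΘJ)
    {P : (J ⊗ J).left.Modules} (hP : PicF.IsInvertible P) (hPP : AbDual.IsPoincareCl J J φJ (PicF.cl P))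
    {M₁ : Over (Spec (CommRingCat.of k))} {φ₁ : (BunMod.USS (X ↘ Spec (CommRingCat.of k)) r 0).Hom ⊤ M₁}
    (hM₁ : BunMod.IsModSS (X ↘ Spec (CommRingCat.of k)) ⊤ r 0 M₁ φ₁)
    {M₂ : Over (Spec (CommRingCat.of k))} {φ₂ : (BunMod.USS (X ↘ Spec (CommRingCat.of k)) m 0).Hom ⊤ M₂}
    (hM₂ : BunMod.IsModSS (X ↘ Spec (CommRingCat.of k)) ⊤ m 0 M₂ φ₂)
    {M₃ : Over (Spec (CommRingCat.of k))} {φ₃ : (BunMod.USS (X ↘ Spec (CommRingCat.of k)) (m * r) 0).Hom ⊤ M₃}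
    (hM₃ : BunMod.IsModSS (X ↘ Spec (CommRingCat.of k)) ⊤ (m * r) 0 M₃ φ₃)
    {τ : M₁ ⊗ M₂ ⟶ M₃} (hτ : Jac.IsBinOpMap φ₁ φ₂ φ₃ (Jac.tensorRel (X ↘ Spec (CommRingCat.of k))) τ)
    {d₁ : M₁ ⟶ J} (hd₁ : BunMod.IsDetMap (X ↘ Spec (CommRingCat.of k)) (BunMod.ussOK (X ↘ Spec (CommRingCat.of k)) r 0) φ₁ 0 ψ d₁)
    {d₂ : M₂ ⟶ J} (hd₂ : BunMod.IsDetMap (X ↘ Spec (CommRingCat.of k)) (BunMod.ussOK (X ↘ Spec (CommRingCat.of k)) m 0) φ₂ 0 ψ d₂)
    {Θ₁ : M₁.left.Modules} (hΘ₁ : BunMod.IsThetaLB (X ↘ Spec (CommRingCat.of k)) (BunMod.ussOK (X ↘ Spec (CommRingCat.of k)) r 0) φ₁ N Θ₁)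
    {Θ₂ : M₂.left.Modules} (hΘ₂ : BunMod.IsThetaLB (X ↘ Spec (CommRingCat.of k)) (BunMod.ussOK (X ↘ Spec (CommRingCat.of k)) m 0) φ₂ N Θ₂)
    {Θ₃ : M₃.left.Modules} (hΘ₃ : BunMod.IsThetaLB (X ↘ Spec (CommRingCat.of k)) (BunMod.ussOK (X ↘ Spec (CommRingCat.of k)) (m * r) 0) φ₃ N Θ₃) :
    Nonempty ((Scheme.Modules.pullback τ.left).obj Θ₃ ≅
      CohB1.tensorMod
        (CohB1.tensorMod ((Scheme.Modules.pullback (fst M₁ M₂).left).obj (CohB1.tensorPow Θ₁ m))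
          ((Scheme.Modules.pullback (snd M₁ M₂).left).obj (CohB1.tensorPow Θ₂ r)))
        ((Scheme.Modules.pullback (d₁ ⊗ₘ d₂).left).obj P)) := by
  obtain ⟨A₁⟩ := hat r hr
  obtain ⟨A₂⟩ := hat m hm
  obtain ⟨A₃⟩ := hat (m * r) (Nat.mul_pos hm hr)
  have hN' : FlatMod.IsFinLocFree N := K707.Base.isFinLocFree_of_rank (K707.TensL.rank_one_iff.mpr hN)
  have i1 := isTheta hdim hN' hM₁.2.1 A₁ (hth r hr)
  have i2 := isTheta hdim hN' hM₂.2.1 A₂ (hth m hm)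
  have i3 := isTheta hdim hN' hM₃.2.1 A₃ (hth (m * r) (Nat.mul_pos hm hr))
  obtain ⟨-, -, -, -, σ, hσ, -⟩ := K532.ThetaAmple.exists_setup hdim hJ
  obtain ⟨FJ⟩ := K757.TwistUSS.exists_fineJ hdim σ hσ hJ
  obtain ⟨a, ha⟩ := K319.ActBin.exists_isBinOpMap hdim (K757.OnM.exists_uss A₂ hM₂.2.1).1 FJ
  exact main_row hdim hJ hN hr hm hΘJ φJ hsd hP hPP hM₂.2.1 ha hτ hd₁ hd₂ hΘ₁ hΘ₂ hΘ₃ hr1
    (inp hdim hJ hr hM₁ hd₁ A₁ i1) (inp hdim hJ hm hM₂ hd₂ A₂ i2) i3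
    (fun x y h => K319.LnkE1.lnk hdim hJ hr hM₁ hd₁ h) (fun x y h => K319.LnkE1.lnk hdim hJ hm hM₂ hd₂ h)

end K319.Fin
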