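import Groth.Agent.BunMod.K319.Fin
import Groth.Agent.BunMod.K140.Atlas
import Groth.Agent.BunMod.K28.R1Main

/-!
# The tensor product theorem from the theorem on the theta ideals of families

`main`: S16922 from the family form of the theorem on the theta ideal.
-/

set_option autoImplicit false
universe u
open CategoryTheory CategoryTheory.Limits AlgebraicGeometry MonoidalCategory CartesianMonoidalCategory MonObj

namespace K319.Fin2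

open Jac K140.BM K319.Main

variable {k : Type u} [Field k] [IsAlgClosed k] {X : Scheme.{u}} [X.Over (Spec (CommRingCat.of k))]
  [IsProper (X ↘ Spec (CommRingCat.of k))] [Smooth (X ↘ Spec (CommRingCat.of k))]
  [GeometricallyConnected (X ↘ Spec (CommRingCat.of k))] (hdim : topologicalKrullDim ↥X = 1)

include hdim

/-- **S16922** from the theorem on the theta ideals of families. -/
theorem main [CharZero k] {r m : ℕ} (hr : 1 ≤ r) (hm : 1 ≤ m) {N : X.Modules} (hN : PicF.IsInvertible N)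
    (hNdeg : Curv2.deg k X N 1 = (Curv2.genus k X : ℤ) - 1)
    (hth : ∀ n : ℕ, 1 ≤ n → ∀ (M : Over (B0 k)) (φ : (BunMod.USS (st k X) n 0).Hom ⊤ M),
      ModFun.IsBestApprox ⊤ (BunMod.USS (st k X) n 0) M φ → IsTheta φ N)
    {J : Over (Spec (CommRingCat.of k))} [GrpObj J] [IsCommMonObj J]
    {ψ : (ModFun.PicDeg (X ↘ Spec (CommRingCat.of k)) 0).Hom ⊤ J}
    (hJ : Jac.IsJacobian (X ↘ Spec (CommRingCat.of k)) ⊤ J ψ)
    {ΘJ : J.left.Modules} (hΘJ : Jac.IsThetaLB (X ↘ Spec (CommRingCat.of k)) 0 ψ N ΘJ)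
    (φJ : AgPol.DualMap J J) (hsd : Jac.IsSelfDual Scheme.fppfPrecoverage J φJ ΘJ)
    {P : (J ⊗ J).left.Modules} (hP : PicF.IsInvertible P) (hPP : AbDual.IsPoincareCl J J φJ (PicF.cl P))
    {M₁ : Over (Spec (CommRingCat.of k))} {φ₁ : (BunMod.USS (X ↘ Spec (CommRingCat.of k)) r 0).Hom ⊤ M₁}
    (hM₁ : BunMod.IsModSS (X ↘ Spec (CommRingCat.of k)) ⊤ r 0 M₁ φ₁)
    {M₂ : Over (Spec (CommRingCat.of k))} {φ₂ : (BunMod.USS (X ↘ Spec (CommRingCat.of k)) m 0).Hom ⊤ M₂}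
    (hM₂ : BunMod.IsModSS (X ↘ Spec (CommRingCat.of k)) ⊤ m 0 M₂ φ₂)
    {M₃ : Over (Spec (CommRingCat.of k))} {φ₃ : (BunMod.USS (X ↘ Spec (CommRingCat.of k)) (m * r) 0).Hom ⊤ M₃}
    (hM₃ : BunMod.IsModSS (X ↘ Spec (CommRingCat.of k)) ⊤ (m * r) 0 M₃ φ₃)
    {τ : M₁ ⊗ M₂ ⟶ M₃} (hτ : Jac.IsBinOpMap φ₁ φ₂ φ₃ (Jac.tensorRel (X ↘ Spec (CommRingCat.of k))) τ)
    {d₁ : M₁ ⟶ J} (hd₁ : BunMod.IsDetMap (X ↘ Spec (CommRingCat.of k)) (BunMod.ussOK (X ↘ Spec (CommRingCat.of k)) r 0) φ₁ 0 ψ d₁)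
    {d₂ : M₂ ⟶ J} (hd₂ : BunMod.IsDetMap (X ↘ Spec (CommRingCat.of k)) (BunMod.ussOK (X ↘ Spec (CommRingCat.of k)) m 0) φ₂ 0 ψ d₂)
    {Θ₁ : M₁.left.Modules} (hΘ₁ : BunMod.IsThetaLB (X ↘ Spec (CommRingCat.of k)) (BunMod.ussOK (X ↘ Spec (CommRingCat.of k)) r 0) φ₁ N Θ₁)
    {Θ₂ : M₂.left.Modules} (hΘ₂ : BunMod.IsThetaLB (X ↘ Spec (CommRingCat.of k)) (BunMod.ussOK (X ↘ Spec (CommRingCat.of k)) m 0) φ₂ N Θ₂)
    {Θ₃ : M₃.left.Modules} (hΘ₃ : BunMod.IsThetaLB (X ↘ Spec (CommRingCat.of k)) (BunMod.ussOK (X ↘ Spec (CommRingCat.of k)) (m * r) 0) φ₃ N Θ₃) :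
    Nonempty ((Scheme.Modules.pullback τ.left).obj Θ₃ ≅
      CohB1.tensorMod
        (CohB1.tensorMod ((Scheme.Modules.pullback (fst M₁ M₂).left).obj (CohB1.tensorPow Θ₁ m))
          ((Scheme.Modules.pullback (snd M₁ M₂).left).obj (CohB1.tensorPow Θ₂ r)))
        ((Scheme.Modules.pullback (d₁ ⊗ₘ d₂).left).obj P)) := by
  obtain ⟨A₁⟩ := K140.BM.exists_atlasC (k := k) (X := X) hdim hr
  obtain ⟨A₂⟩ := K140.BM.exists_atlasC (k := k) (X := X) hdim hm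
  have hr1 : IsThetaJ ψ N := K28.R1Main.isThetaJ hdim hJ hN hNdeg
  have i1 := hth r hr M₁ φ₁ hM₁.2.1
  have i2 := hth m hm M₂ φ₂ hM₂.2.1
  have i3 := hth (m * r) (Nat.mul_pos hm hr) M₃ φ₃ hM₃.2.1
  obtain ⟨-, -, -, -, σ, hσ, -⟩ := K532.ThetaAmple.exists_setup hdim hJ
  obtain ⟨FJ⟩ := K757.TwistUSS.exists_fineJ hdim σ hσ hJ
  obtain ⟨a, ha⟩ := K319.ActBin.exists_isBinOpMap hdim (K757.OnM.exists_uss A₂ hM₂.2.1).1 FJ
  exact main_row hdim hJ hN hr hm hΘJ φJ hsd hP hPP hM₂.2.1 ha hτ hd₁ hd₂ hΘ₁ hΘ₂ hΘ₃ hr1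
    (Fin.inp hdim hJ hr hM₁ hd₁ A₁ i1) (Fin.inp hdim hJ hm hM₂ hd₂ A₂ i2) i3
    (fun x y h => K319.LnkE1.lnk hdim hJ hr hM₁ hd₁ h) (fun x y h => K319.LnkE1.lnk hdim hJ hm hM₂ hd₂ h)

end K319.Fin2
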