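import Groth.Agent.Fitt.K360.Basic

/-!
# The initial Fitting ideal of a direct sum

`Fitt_0 (M × N) = Fitt_0 M * Fitt_0 N` for finite modules.
-/

set_option autoImplicit false
universe u v w

namespace K319.FittSum

open Fitt Matrix Polynomial K360.FittBasic
open Groth.Agent.Flat2C.FittingZero (rel mem_rel)

variable {R : Type u} [CommRing R]

theorem det_eq_zero_of_card {ι κ : Type*} [Fintype ι] [Fintype κ] [DecidableEq ι] [DecidableEq κ]
    (u : Matrix (ι ⊕ κ) (ι ⊕ κ) R) (S : Finset (ι ⊕ κ)) (h1 : ∀ i ∈ S, ∀ j : κ, u i (Sum.inr j) = 0)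
    (h2 : ∀ i, i ∉ S → ∀ j : ι, u i (Sum.inl j) = 0) (hS : S.card ≠ Fintype.card ι) : u.det = 0 := by
  have key : Matrix.diagonal (fun i : ι ⊕ κ => if i ∈ S then (X : R[X]) else 1) * u.map C =
      u.map C * Matrix.diagonal (Sum.elim (fun _ => (X : R[X])) fun _ => 1) := by
    ext1 i j
    rw [Matrix.diagonal_mul, Matrix.mul_diagonal, Matrix.map_apply]
    by_cases hi : i ∈ S
    · rw [if_pos hi]
      rcases j with j | j
      · exact mul_comm _ _
      · rw [h1 i hi j, map_zero, mul_zero, zero_mul]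
    · rw [if_neg hi, one_mul]
      rcases j with j | j
      · rw [h2 i hi j, map_zero, zero_mul]
      · exact (mul_one _).symm
  have h3 := congrArg Matrix.det key
  rw [Matrix.det_mul, Matrix.det_mul, Matrix.det_diagonal, Matrix.det_diagonal] at h3
  have h4 : (u.map (C : R → R[X])).det = C u.det := (RingHom.map_det C u).symm
  have h5 : (∏ i : ι ⊕ κ, if i ∈ S then (X : R[X]) else 1) = X ^ S.card := by
    rw [Finset.prod_ite, Finset.prod_const_one, mul_one, Finset.prod_const]
    congr 2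
    ext; simp
  have h6 : (∏ i : ι ⊕ κ, Sum.elim (fun _ => (X : R[X])) (fun _ => 1) i) = X ^ Fintype.card ι := by
    rw [Fintype.prod_sum_type]
    simp
  rw [h4, h5, h6] at h3
  have h7 := congrArg (fun p => coeff p (Fintype.card ι)) h3
  simp only [coeff_X_pow_mul', coeff_C_mul, coeff_X_pow_self, mul_one] at h7
  rw [← h7]
  split_ifs with h
  · rw [coeff_C, if_neg (by omega)]
  · rfl

theorem exists_perm {ι κ : Type*} [Fintype ι] [Fintype κ] [DecidableEq ι] [DecidableEq κ]
    (S : Finset (ι ⊕ κ)) (hS : S.card = Fintype.card ι) :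
    ∃ σ : Equiv.Perm (ι ⊕ κ), (∀ i, σ (Sum.inl i) ∈ S) ∧ ∀ j, σ (Sum.inr j) ∉ S := by
  have h1 : Fintype.card ι = Fintype.card {a // a ∈ S} := by rw [Fintype.card_coe, hS]
  have h2 : Fintype.card κ = Fintype.card {a // a ∉ S} := by
    rw [Fintype.card_subtype_compl, Fintype.card_coe, hS, Fintype.card_sum, Nat.add_sub_cancel_left]
  refine ⟨(Equiv.sumCongr (Fintype.equivOfCardEq h1) (Fintype.equivOfCardEq h2)).trans
    (Equiv.sumCompl fun a => a ∈ S), fun i => ?_, fun j => ?_⟩
  · exact (Fintype.equivOfCardEq h1 i).2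
  · exact (Fintype.equivOfCardEq h2 j).2

variable {M : Type v} [AddCommGroup M] [Module R M] {N : Type w} [AddCommGroup N] [Module R N]

theorem fit_prod {ι κ : Type*} [Fintype ι] [Fintype κ] [DecidableEq ι] [DecidableEq κ] (x : ι → M) (y : κ → N) :
    fit (R := R) (Sum.elim (fun i => (x i, (0 : N))) fun j => ((0 : M), y j)) 0 =
      fit (R := R) x 0 * fit (R := R) y 0 := by
  classical
  set s : Set (ι ⊕ κ → R) := {c | (∀ j, c (Sum.inr j) = 0) ∧ ∑ i, c (Sum.inl i) • x i = 0} ∪
    {c | (∀ i, c (Sum.inl i) = 0) ∧ ∑ j, c (Sum.inr j) • y j = 0} with hs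
  have hspan : Submodule.span R s = rel (R := R) (Sum.elim (fun i => (x i, (0 : N))) fun j => ((0 : M), y j)) := by
    refine le_antisymm (Submodule.span_le.2 ?_) ?_
    · rintro c (⟨h1, h2⟩ | ⟨h1, h2⟩)
      · rw [SetLike.mem_coe, mem_rel, Fintype.sum_sum_type]
        simp [h1, Prod.ext_iff, Prod.fst_sum, Prod.snd_sum, h2]
      · rw [SetLike.mem_coe, mem_rel, Fintype.sum_sum_type]
        simp [h1, Prod.ext_iff, Prod.fst_sum, Prod.snd_sum, h2]
    · intro c hc
      rw [mem_rel, Fintype.sum_sum_type] at hc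
      simp only [Sum.elim_inl, Sum.elim_inr, Prod.smul_mk, smul_zero, Prod.ext_iff, Prod.fst_add, Prod.snd_add,
        Prod.fst_sum, Prod.snd_sum, Prod.fst_zero, Prod.snd_zero, Finset.sum_const_zero, add_zero, zero_add] at hc
      have h1 : c = Sum.elim (fun i => c (Sum.inl i)) (fun _ => 0) + Sum.elim (fun _ => 0) fun j => c (Sum.inr j) := by
        ext (i | j) <;> simp
      rw [h1]
      exact Submodule.add_mem _ (Submodule.subset_span (Or.inl ⟨fun _ => rfl, hc.1⟩))
        (Submodule.subset_span (Or.inr ⟨fun _ => rfl, hc.2⟩))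
  refine le_antisymm ?_ ?_
  · rw [fit_eq_span _ s _ hspan (Submodule.span_univ (R := R))]
    refine Ideal.span_le.2 ?_
    rintro _ ⟨u, t, ht, hu, -, rfl⟩
    rw [Nat.le_zero, Finset.card_eq_zero] at ht
    subst ht
    have hu' : ∀ i, u i ∈ s := fun i => hu i (Finset.notMem_empty i)
    set S : Finset (ι ⊕ κ) := Finset.univ.filter fun i => (∀ j, u i (Sum.inr j) = 0) ∧
      ∑ i', u i (Sum.inl i') • x i' = 0 with hS
    have h1 : ∀ i ∈ S, ∀ j : κ, u i (Sum.inr j) = 0 := fun i hi => (Finset.mem_filter.1 hi).2.1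
    have h2 : ∀ i, i ∉ S → (∀ j : ι, u i (Sum.inl j) = 0) ∧ ∑ j, u i (Sum.inr j) • y j = 0 := by
      intro i hi
      rcases hu' i with h | h
      · exact absurd (Finset.mem_filter.2 ⟨Finset.mem_univ i, h⟩) hi
      · exact h
    by_cases hc : S.card = Fintype.card ι
    · obtain ⟨σ, hσ1, hσ2⟩ := exists_perm S hc
      have h3 : u.submatrix σ id = Matrix.fromBlocks (Matrix.of fun i j => u (σ (Sum.inl i)) (Sum.inl j)) 0 0
          (Matrix.of fun i j => u (σ (Sum.inr i)) (Sum.inr j)) := by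
        ext1 i j
        rcases i with i | i <;> rcases j with j | j
        · rfl
        · exact h1 _ (hσ1 i) j
        · exact (h2 _ (hσ2 i)).1 j
        · rfl
      have h4 := Matrix.det_permute σ u
      rw [h3, Matrix.det_fromBlocks_zero₂₁] at h4
      have h5 : u.det = ((Equiv.Perm.sign σ : ℤ) : R) * (Matrix.det (Matrix.of fun i j => u (σ (Sum.inl i)) (Sum.inl j)) *
          Matrix.det (Matrix.of fun i j => u (σ (Sum.inr i)) (Sum.inr j))) := by
        rw [h4, ← mul_assoc, ← Int.cast_mul, ← Units.val_mul, Int.units_mul_self, Units.val_one, Int.cast_one, one_mul]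
      rw [h5]
      refine Ideal.mul_mem_left _ _ (Ideal.mul_mem_mul ?_ ?_)
      · exact Ideal.subset_span ⟨_, ∅, le_rfl, fun i _ => (Finset.mem_filter.1 (hσ1 i)).2.2, rfl⟩
      · exact Ideal.subset_span ⟨_, ∅, le_rfl, fun i _ => (h2 _ (hσ2 i)).2, rfl⟩
    · rw [SetLike.mem_coe, det_eq_zero_of_card u S h1 (fun i hi => (h2 i hi).1) hc]
      exact Ideal.zero_mem _
  · rw [fit, fit, Ideal.span_mul_span']
    refine Ideal.span_le.2 ?_
    rintro _ ⟨_, ⟨a, t, ht, ha, rfl⟩, _, ⟨b, t', ht', hb, rfl⟩, rfl⟩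
    rw [Nat.le_zero, Finset.card_eq_zero] at ht ht'
    subst ht ht'
    refine Ideal.subset_span ⟨Matrix.fromBlocks a 0 0 b, ∅, le_rfl, ?_, Matrix.det_fromBlocks_zero₂₁ _ _ _⟩
    rintro (i | i) -
    · rw [Fintype.sum_sum_type]
      simp [Prod.ext_iff, Prod.fst_sum, Prod.snd_sum, ha i (Finset.notMem_empty i)]
    · rw [Fintype.sum_sum_type]
      simp [Prod.ext_iff, Prod.fst_sum, Prod.snd_sum, hb i (Finset.notMem_empty i)]

/-- **The initial Fitting ideal of a direct sum.** -/
theorem ideal_prod [Module.Finite R M] [Module.Finite R N] :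
    Fitt.ideal R (M × N) 0 = Fitt.ideal R M 0 * Fitt.ideal R N 0 := by
  obtain ⟨n, x, hx⟩ := Module.Finite.exists_fin (R := R) (M := M)
  obtain ⟨m, y, hy⟩ := Module.Finite.exists_fin (R := R) (M := N)
  rw [ideal_eq_fit x hx, ideal_eq_fit y hy, ← fit_prod]
  refine ideal_eq_fit _ ?_ 0
  rw [Set.Sum.elim_range, Submodule.span_union]
  have h1 : Submodule.span R (Set.range fun i => (x i, (0 : N))) = Submodule.map (LinearMap.inl R M N) ⊤ := by
    rw [← hx, Submodule.map_span, ← Set.range_comp]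
    rfl
  have h2 : Submodule.span R (Set.range fun j => ((0 : M), y j)) = Submodule.map (LinearMap.inr R M N) ⊤ := by
    rw [← hy, Submodule.map_span, ← Set.range_comp]
    rfl
  rw [h1, h2, ← LinearMap.range_eq_map, ← LinearMap.range_eq_map, LinearMap.sup_range_inl_inr]

end K319.FittSum
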