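import Groth.Agent.BunMod.K319.Main
import Groth.Agent.BunMod.K140.Comap
import Groth.Agent.BunMod.K757.HomOver

/-!
# Ideal sheaves on a given moduli space are detected by the atlas
-/

set_option autoImplicit false
universe u

open CategoryTheory CategoryTheory.Limits AlgebraicGeometry MonoidalCategory CartesianMonoidalCategory

namespace K319.FromAtl

open K140.BM K319.SumFam K319.Sect K319.Main

variable {k : Type u} [Field k] {X : Scheme.{u}} [X.Over (Spec (CommRingCat.of k))] {r : ℕ} {M : Over (B0 k)}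
  {φ : (BunMod.USS (st k X) r 0).Hom ⊤ M}

theorem comap_injective_iso {Y Z : Scheme.{u}} (f : Y ⟶ Z) [IsIso f] :
    Function.Injective fun I : Z.IdealSheafData => I.comap f := by
  intro I I' h
  have h1 := congrArg (fun K : Y.IdealSheafData => K.comap (inv f)) h
  simpa only [← Scheme.IdealSheafData.comap_comp, IsIso.inv_hom_id, Scheme.IdealSheafData.comap_id] using h1

/-- `HasTest` from an atlas. -/
theorem hasTest (A : AtlasC k X (BunMod.ussOK (st k X) r 0)) (φA : (BunMod.USS (st k X) r 0).Hom ⊤ A.M)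
    (hφA : ∀ (T : Over (B0 k)) (c : T ⟶ A.Z) (h : (BunMod.USS (st k X) r 0).ok T (pl k X c A.E)),
      φA.app T (pl k X c A.E) trivial h = c ≫ A.π)
    (hA : ModFun.IsBestApprox ⊤ (BunMod.USS (st k X) r 0) A.M φA)
    (hM : ModFun.IsBestApprox ⊤ (BunMod.USS (st k X) r 0) M φ) : HasTest φ := by
  obtain ⟨e, he⟩ := K757.HomOver.exists_iso hA hM
  have hE : (BunMod.USS (st k X) r 0).ok A.Z A.E := ⟨trivial, A.ok⟩
  have hE1 : (BunMod.USS (st k X) r 0).ok A.Z (pl k X (𝟙 A.Z) A.E) := ⟨trivial, ussOK_pull _ A.ok⟩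
  refine ⟨A.Z, A.E, hE, ?_⟩
  have h1 : φ.app A.Z A.E trivial hE = A.π ≫ e.hom := by
    have h2 := app_pl φ (𝟙 A.Z) ⟨Iso.refl _⟩ hE hE1
    rw [Category.id_comp] at h2
    have h3 := he A.Z (pl k X (𝟙 A.Z) A.E) hE1
    have h4 := hφA A.Z (𝟙 A.Z) hE1
    rw [Category.id_comp] at h4
    exact h2.trans (h3.trans (congrArg (· ≫ e.hom) h4))
  rw [h1]
  have : IsIso e.hom.left := inferInstanceAs (IsIso ((Over.forget _).map e.hom))
  intro I I' h
  rw [Over.comp_left] at h
  simp only [Scheme.IdealSheafData.comap_comp] at h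
  exact comap_injective_iso e.hom.left (A.comap_injective h)

end K319.FromAtl
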