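import Groth.Agent.BunMod.K319.Teq
import Groth.Agent.BunMod.K319.ThetaSum
import Groth.Agent.AlgSp.K622.PicKer
import Groth.Agent.AbVar.K519.DualCalc
import Groth.Agent.AbDual.K732.AV

/-!
# Theta line bundles and the tensor product map

The three restrictions of the pull-backs of theta classes along the action and the tensor product map, from the
ideal form of the theta line bundles (`IsTheta`).
-/

set_option autoImplicit false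
universe u

open CategoryTheory CategoryTheory.Limits AlgebraicGeometry MonoidalCategory CartesianMonoidalCategory MonObj

namespace K319.Main

open K140.BM K319.Dsum K319.SumFam K319.Sect K319.Teq K319.ThetaSum Groth.Agent.Grpsch.PicGrp K622.PicKer
open Groth.Agent.Divis.EffCartier Groth.Agent.Divis.IdealComap Groth.Agent.ASBun.K791.Tens

section Gen

variable {Y Z : Scheme.{u}}

/-- The class of a theta line bundle. -/
theorem mk_eq_inv_ic {Θ : Y.Modules} {I : Y.IdealSheafData} (hΘ : PicF.IsInvertible Θ)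
    (h : ClSub.IsInverseOf Θ (ClSub.idealMod I)) (hI : BlowUp.IsEffCartierIdeal I) : mk Θ hΘ = (ic I hI)⁻¹ := by
  rw [eq_inv_iff_mul_eq_one, ic, mk_mul_mk, mk_eq_one_iff]
  obtain ⟨e⟩ := h
  exact ⟨e⟩

theorem comap_congr {f g : Z ⟶ Y} (h : f = g) (I : Y.IdealSheafData) : I.comap f = I.comap g := by rw [h]

end Gen

variable {k : Type u} [Field k] {X : Scheme.{u}} [X.Over (Spec (CommRingCat.of k))]

/-- The ideal of the theta locus on a moduli space of bundles. -/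
noncomputable abbrev vI {r : ℕ} {M : Over (B0 k)} (φ : (BunMod.USS (st k X) r 0).Hom ⊤ M) (N : X.Modules) :
    M.left.IdealSheafData :=
  Scheme.IdealSheafData.vanishingIdeal
    ⟨BunMod.thetaLocus (st k X) (BunMod.ussOK (st k X) r 0) φ N, isClosed_closure⟩

/-- The ideal of the theta locus on the Jacobian. -/
noncomputable abbrev vJ {J : Over (B0 k)} (ψ : (ModFun.PicDeg (st k X) 0).Hom ⊤ J) (N : X.Modules) :
    J.left.IdealSheafData :=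
  Scheme.IdealSheafData.vanishingIdeal ⟨Jac.thetaLocus (st k X) 0 ψ N, isClosed_closure⟩

/-- The ideal of the theta locus pulls back to the theta ideal of every admissible family. -/
def IsTheta {r : ℕ} {M : Over (B0 k)} (φ : (BunMod.USS (st k X) r 0).Hom ⊤ M) (N : X.Modules) : Prop :=
  ∀ (T : Over (B0 k)) (E : (PicF.XT (st k X) T).Modules) (h : (BunMod.USS (st k X) r 0).ok T E),
    (vI φ N).comap (φ.app T E trivial h).left = thetaIdeal k N T E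

/-- The same for the Jacobian. -/
def IsThetaJ {J : Over (B0 k)} (ψ : (ModFun.PicDeg (st k X) 0).Hom ⊤ J) (N : X.Modules) : Prop :=
  ∀ (T : Over (B0 k)) (E : (PicF.XT (st k X) T).Modules) (h : (ModFun.PicDeg (st k X) 0).ok T E),
    (vJ ψ N).comap (ψ.app T E trivial h).left = thetaIdeal k N T E

/-- Ideal sheaves on `M` are detected by an admissible family. -/
def HasTest {r : ℕ} {M : Over (B0 k)} (φ : (BunMod.USS (st k X) r 0).Hom ⊤ M) : Prop :=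
  ∃ (T : Over (B0 k)) (E : (PicF.XT (st k X) T).Modules) (h : (BunMod.USS (st k X) r 0).ok T E),
    Function.Injective fun I : M.left.IdealSheafData => I.comap (φ.app T E trivial h).left

variable [IsProper (X ↘ Spec (CommRingCat.of k))] [Smooth (X ↘ Spec (CommRingCat.of k))]
  [GeometricallyConnected (X ↘ Spec (CommRingCat.of k))] (hdim : topologicalKrullDim ↥X = 1)
  {J : Over (B0 k)} [GrpObj J] {ψ : (ModFun.PicDeg (st k X) 0).Hom ⊤ J} (hJ : Jac.IsJacobian (st k X) ⊤ J ψ)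
  {LL : (PicF.XT (st k X) J).Modules} (hLL : (ModFun.PicDeg (st k X) 0).ok J LL)
  (hLL1 : ψ.app J LL trivial hLL = 𝟙 J)

include hLL1 in
omit [Smooth (X ↘ Spec (CommRingCat.of k))] [GeometricallyConnected (X ↘ Spec (CommRingCat.of k))] [GrpObj J] in
theorem app_L {T : Over (B0 k)} (j : T ⟶ J) :
    ψ.app T (pl k X j LL) trivial (picDeg_pull hdim j hLL) = j := by
  rw [← app_plJ hdim ψ j ⟨Iso.refl _⟩ hLL, hLL1, Category.comp_id]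

/-- The section `ℓ ↦ [ℓ ⊕ O^n]`. -/
noncomputable def sec {n : ℕ} {M : Over (B0 k)} (φ : (BunMod.USS (st k X) (n + 1) 0).Hom ⊤ M) : J ⟶ M :=
  φ.app J (ds LL (Coh.structureModule _) n) trivial ⟨trivial, ussOK_dsO hdim hLL n⟩

include hdim in
theorem ok_ds {n : ℕ} {T : Over (B0 k)} {L : (PicF.XT (st k X) T).Modules}
    (hL : (ModFun.PicDeg (st k X) 0).ok T L) :
    (BunMod.USS (st k X) (n + 1) 0).ok T (ds L (Coh.structureModule (PicF.XT (st k X) T)) n) :=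
  ⟨trivial, ussOK_dsO hdim hL n⟩

omit [GrpObj J] in
theorem comp_sec {n : ℕ} {M : Over (B0 k)} (φ : (BunMod.USS (st k X) (n + 1) 0).Hom ⊤ M) {T : Over (B0 k)}
    (j : T ⟶ J) : j ≫ sec hdim hLL φ =
      φ.app T (ds (pl k X j LL) (Coh.structureModule _) n) trivial (ok_ds hdim (picDeg_pull hdim j hLL)) := by
  obtain ⟨e⟩ := ds_pull (PicF.XTmap (st k X) j) LL (Coh.structureModule _) n
  obtain ⟨e'⟩ := ds_iso (A := pl k X j LL) ⟨Iso.refl _⟩ ⟨pullUnit (PicF.XTmap (st k X) j)⟩ n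
  exact app_pl φ j ⟨e ≪≫ e'⟩ _ _

/-- `LL ⊗ (L ⊕ O^n) ≅ (LL ⊗ L) ⊕ LL^n`. -/
theorem tensor_dsO {Y : Scheme.{u}} (E L : Y.Modules) (n : ℕ) :
    Nonempty (CohB1.tensorMod E (ds L (Coh.structureModule Y) n) ≅ ds (CohB1.tensorMod E L) E n) := by
  obtain ⟨i⟩ := tensor_ds L (Coh.structureModule Y) E n
  obtain ⟨j⟩ := ds_iso (A := CohB1.tensorMod E L) ⟨Iso.refl _⟩ ⟨tensRUnit E⟩ n
  exact ⟨i ≪≫ j⟩

/-- `(L ⊕ O^n) ⊗ E ≅ (L ⊗ E) ⊕ E^n`. -/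
theorem dsO_tensor {Y : Scheme.{u}} (E L : Y.Modules) (n : ℕ) :
    Nonempty (CohB1.tensorMod (ds L (Coh.structureModule Y) n) E ≅ ds (CohB1.tensorMod L E) E n) := by
  obtain ⟨i⟩ := ds_tensor L (Coh.structureModule Y) E n
  obtain ⟨j⟩ := ds_iso (A := CohB1.tensorMod L E) ⟨Iso.refl _⟩ ⟨tensLUnit E⟩ n
  exact ⟨i ≪≫ j⟩

variable {N : X.Modules} (hN : PicF.IsInvertible N)

section alpha

variable {n : ℕ} {M : Over (B0 k)} {φ : (BunMod.USS (st k X) (n + 1) 0).Hom ⊤ M} {a : J ⊗ M ⟶ M}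
  (ha : Jac.IsBinOpMap ψ φ φ (Jac.tensorRel (st k X)) a) (hφ : IsTheta φ N) (hψ : IsThetaJ ψ N)

include hJ hLL1 hN ha hφ hψ in
/-- The theta ideal along `ℓ ↦ ℓ ⊗ (y ⊕ O^n)`. -/
theorem comap_alpha (y : 𝟙_ (Over (B0 k)) ⟶ J) :
    (vI φ N).comap (lift (𝟙 J) (toUnit J ≫ y ≫ sec hdim hLL φ) ≫ a).left =
      (vJ ψ N).comap (K518.Phi.tr y).left * vJ ψ N ^ n := by
  have hN' : FlatMod.IsFinLocFree N :=
    K703.Basic.isFinLocFree_of_rank (K451.DetPic.rank_one_iff.2 hN)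
  set Ly := pl k X (toUnit J ≫ y) LL with hLy
  have hLy1 : (ModFun.PicDeg (st k X) 0).ok J Ly := picDeg_pull hdim _ hLL
  have h1 : lift (𝟙 J) (toUnit J ≫ y ≫ sec hdim hLL φ) ≫ a =
      φ.app J (CohB1.tensorMod LL (ds Ly (Coh.structureModule _) n)) trivial (ok_tens ha hLL (ok_ds hdim hLy1)) := by
    rw [← lift_act ha hLL (ok_ds hdim hLy1), hLL1, ← Category.assoc, comp_sec]
  have h2 := picDeg_tensor hdim hLL hLy1
  obtain ⟨e⟩ := tensor_dsO LL Ly n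
  have hy : ψ.app J Ly trivial hLy1 = toUnit J ≫ y := app_L hdim hLL hLL1 _
  rw [h1, hφ, K54.Theta.thetaIdeal_iso hdim.le hN'
      (K703.Basic.isFinLocFree_of_rank (ok_tens ha hLL (ok_ds hdim hLy1)).2.1)
      (K703.Basic.isFinLocFree_of_rank (rank_ds h2.1.2 hLL.1.2 n)) e,
    thetaIdeal_ds hdim.le hN' h2.1.2 hLL.1.2, ← hψ J _ h2, ← hψ J _ hLL, app_tensorJ hdim hJ hLL hLy1, hLL1, hy, Over.id_left, Scheme.IdealSheafData.comap_id]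

end alpha

section beta

variable {m n : ℕ} {M₁ M₂ M₃ : Over (B0 k)} {φ₁ : (BunMod.USS (st k X) (n + 1) 0).Hom ⊤ M₁}
  {φ₂ : (BunMod.USS (st k X) m 0).Hom ⊤ M₂} {φ₃ : (BunMod.USS (st k X) (m * (n + 1)) 0).Hom ⊤ M₃}
  {a : J ⊗ M₂ ⟶ M₂} (ha : Jac.IsBinOpMap ψ φ₂ φ₂ (Jac.tensorRel (st k X)) a) {τ : M₁ ⊗ M₂ ⟶ M₃}
  (hτ : Jac.IsBinOpMap φ₁ φ₂ φ₃ (Jac.tensorRel (st k X)) τ)
  (hφ₂ : IsTheta φ₂ N) (hφ₃ : IsTheta φ₃ N) (ht : HasTest φ₂)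

include hLL1 hN ha hτ hφ₂ hφ₃ ht in
omit [GrpObj J] in
/-- The theta ideal along `F ↦ (x ⊕ O^n) ⊗ F`. -/
theorem comap_beta (x : 𝟙_ (Over (B0 k)) ⟶ J) :
    (vI φ₃ N).comap (lift (toUnit M₂ ≫ x ≫ sec hdim hLL φ₁) (𝟙 M₂) ≫ τ).left =
      (vI φ₂ N).comap (lift (toUnit M₂ ≫ x) (𝟙 M₂) ≫ a).left * vI φ₂ N ^ n := by
  have hN' : FlatMod.IsFinLocFree N := K703.Basic.isFinLocFree_of_rank (K451.DetPic.rank_one_iff.2 hN)
  obtain ⟨T, E, hE, hinj⟩ := ht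
  apply hinj
  change Scheme.IdealSheafData.comap _ _ = Scheme.IdealSheafData.comap _ _
  set Lx := pl k X (toUnit T ≫ x) LL with hLx
  have hLx1 : (ModFun.PicDeg (st k X) 0).ok T Lx := picDeg_pull hdim _ hLL
  have hx : ψ.app T Lx trivial hLx1 = toUnit T ≫ x := app_L hdim hLL hLL1 _
  obtain ⟨G, hG, ⟨e'⟩⟩ := hτ.1 T (ds Lx (Coh.structureModule _) n) E trivial (ok_ds hdim hLx1) hE
  have h1 : φ₂.app T E trivial hE ≫ lift (toUnit M₂ ≫ x ≫ sec hdim hLL φ₁) (𝟙 M₂) ≫ τ = φ₃.app T G trivial hG := by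
    rw [comp_lift_assoc, Category.comp_id, comp_toUnit_assoc, ← Category.assoc, comp_sec]
    exact (hτ.2 T (_, E) G trivial ⟨ok_ds hdim hLx1, hE⟩ hG ⟨e'⟩).symm
  have h2 : φ₂.app T E trivial hE ≫ lift (toUnit M₂ ≫ x) (𝟙 M₂) ≫ a =
      φ₂.app T (CohB1.tensorMod Lx E) trivial (ok_tens ha hLx1 hE) := by
    rw [← lift_act ha hLx1 hE, hx, comp_lift_assoc, Category.comp_id, comp_toUnit_assoc]
  obtain ⟨e⟩ := dsO_tensor E Lx n
  have hr := (ok_tens ha hLx1 hE).2.1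
  have h3 := hφ₃ T G hG
  have h4 := hφ₂ T E hE
  have h5 := hφ₂ T _ (ok_tens ha hLx1 hE)
  rw [← Scheme.IdealSheafData.comap_comp, ← Over.comp_left, h1, comap_mul, comap_pow,
    ← Scheme.IdealSheafData.comap_comp, ← Over.comp_left, h2, h4, h5]
  refine h3.trans ?_
  rw [K54.Theta.thetaIdeal_iso hdim.le hN' (K703.Basic.isFinLocFree_of_rank hG.2.1)
      (K703.Basic.isFinLocFree_of_rank (rank_ds hr hE.2.1 n)) (e' ≪≫ e), thetaIdeal_ds hdim.le hN' hr hE.2.1]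

end beta

section gamma

variable {r n : ℕ} {M₁ M₂ M₃ : Over (B0 k)} {φ₁ : (BunMod.USS (st k X) r 0).Hom ⊤ M₁}
  {φ₂ : (BunMod.USS (st k X) (n + 1) 0).Hom ⊤ M₂} {φ₃ : (BunMod.USS (st k X) ((n + 1) * r) 0).Hom ⊤ M₃}
  {τ : M₁ ⊗ M₂ ⟶ M₃} (hτ : Jac.IsBinOpMap φ₁ φ₂ φ₃ (Jac.tensorRel (st k X)) τ)
  (hφ₁ : IsTheta φ₁ N) (hφ₃ : IsTheta φ₃ N) (ht : HasTest φ₁)

include hdim hJ hLL hLL1 in
/-- The universal line bundle is trivial over the unit section. -/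
theorem nonempty_univ_one [IsAlgClosed k] (T : Over (B0 k)) :
    Nonempty (pl k X (toUnit T ≫ (1 : 𝟙_ (Over (B0 k)) ⟶ J)) LL ≅ Coh.structureModule (PicF.XT (st k X) T)) := by
  have h1 : ψ.app _ (pl k X (1 : 𝟙_ (Over (B0 k)) ⟶ J) LL) trivial (picDeg_pull hdim _ hLL) =
      ψ.app _ (Coh.structureModule (PicF.XT (st k X) (𝟙_ (Over (B0 k))))) trivial (picDeg_structure _) := by
    rw [app_L hdim hLL hLL1, app_one hJ]
  obtain ⟨e⟩ := nonempty_iso_of_app hdim hJ _ _ h1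
  obtain ⟨e'⟩ := nonempty_plComp (toUnit T) (1 : 𝟙_ (Over (B0 k)) ⟶ J) LL
  exact ⟨e'.symm ≪≫ (Scheme.Modules.pullback _).mapIso e ≪≫ pullUnit _⟩

include hJ hLL1 hN hτ hφ₁ hφ₃ ht in
/-- The theta ideal along `E ↦ E ⊗ O^(n+1)`. -/
theorem comap_gamma [IsAlgClosed k] :
    (vI φ₃ N).comap (lift (𝟙 M₁) (toUnit M₁ ≫ (1 : 𝟙_ (Over (B0 k)) ⟶ J) ≫ sec hdim hLL φ₂) ≫ τ).left =
      vI φ₁ N ^ (n + 1) := by
  have hN' : FlatMod.IsFinLocFree N := K703.Basic.isFinLocFree_of_rank (K451.DetPic.rank_one_iff.2 hN)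
  obtain ⟨T, E, hE, hinj⟩ := ht
  apply hinj
  change Scheme.IdealSheafData.comap _ _ = Scheme.IdealSheafData.comap _ _
  set L := pl k X (toUnit T ≫ (1 : 𝟙_ (Over (B0 k)) ⟶ J)) LL with hL
  have hL1 : (ModFun.PicDeg (st k X) 0).ok T L := picDeg_pull hdim _ hLL
  obtain ⟨G, hG, ⟨e'⟩⟩ := hτ.1 T E (ds L (Coh.structureModule _) n) trivial hE (ok_ds hdim hL1)
  have h1 : φ₁.app T E trivial hE ≫ lift (𝟙 M₁) (toUnit M₁ ≫ (1 : 𝟙_ (Over (B0 k)) ⟶ J) ≫ sec hdim hLL φ₂) ≫ τ =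
      φ₃.app T G trivial hG := by
    rw [comp_lift_assoc, Category.comp_id, comp_toUnit_assoc, ← Category.assoc (toUnit T), comp_sec]
    exact (hτ.2 T (E, _) G trivial ⟨hE, ok_ds hdim hL1⟩ hG ⟨e'⟩).symm
  obtain ⟨i⟩ := nonempty_univ_one hdim hJ hLL hLL1 T
  obtain ⟨e⟩ := tensor_dsO E L n
  obtain ⟨e₂⟩ := ds_iso (A := CohB1.tensorMod E L) (B := E) ⟨tensMap (Iso.refl E) i ≪≫ tensRUnit E⟩ ⟨Iso.refl _⟩ n
  have h3 := hφ₃ T G hG
  have h4 := hφ₁ T E hE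
  rw [← Scheme.IdealSheafData.comap_comp, ← Over.comp_left, h1, comap_pow, h4]
  refine h3.trans ?_
  rw [K54.Theta.thetaIdeal_iso hdim.le hN' (K703.Basic.isFinLocFree_of_rank hG.2.1)
      (K703.Basic.isFinLocFree_of_rank (rank_ds hE.2.1 hE.2.1 n)) (e' ≪≫ e ≪≫ e₂),
    thetaIdeal_ds hdim.le hN' hE.2.1 hE.2.1, pow_succ']

end gamma

section final

variable [IsAlgClosed k] [IsCommMonObj J] [IsProper J.hom] [GeometricallyIntegral J.hom]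

open K518.Phi K319.Seesaw

include hdim hJ hLL hLL1 hN in
/-- **The tensor product map and the theta line bundles, on classes.** -/
theorem main_cl {n m : ℕ} {M₁ M₂ M₃ : Over (B0 k)} [IsProper M₁.hom] [IsReduced M₁.left] [IsProper M₂.hom]
    [GeometricallyIntegral M₂.hom] (hnor : Pi1.IsNormalScheme M₂.left)
    {φ₁ : (BunMod.USS (st k X) (n + 1) 0).Hom ⊤ M₁} {φ₂ : (BunMod.USS (st k X) (m + 1) 0).Hom ⊤ M₂}
    {φ₃ : (BunMod.USS (st k X) ((m + 1) * (n + 1)) 0).Hom ⊤ M₃}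
    (hM₂ : ModFun.IsBestApprox ⊤ (BunMod.USS (st k X) (m + 1) 0) M₂ φ₂)
    {a : J ⊗ M₂ ⟶ M₂} (ha : Jac.IsBinOpMap ψ φ₂ φ₂ (Jac.tensorRel (st k X)) a) {τ : M₁ ⊗ M₂ ⟶ M₃}
    (hτ : Jac.IsBinOpMap φ₁ φ₂ φ₃ (Jac.tensorRel (st k X)) τ)
    (hψ : IsThetaJ ψ N) (hφ₁ : IsTheta φ₁ N) (hφ₂ : IsTheta φ₂ N) (hφ₃ : IsTheta φ₃ N) (ht₁ : HasTest φ₁)
    (ht₂ : HasTest φ₂) {d₁ : M₁ ⟶ J}
    (hd₁ : BunMod.IsDetMap (st k X) (BunMod.ussOK (st k X) (n + 1) 0) φ₁ 0 ψ d₁) {d₂ : M₂ ⟶ J}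
    (hd₂ : BunMod.IsDetMap (st k X) (BunMod.ussOK (st k X) (m + 1) 0) φ₂ 0 ψ d₂)
    (hl₁ : ∀ x y : Pt M₁, x ≫ d₁ = y ≫ d₁ → Lnk M₁ x y) (hl₂ : ∀ x y : Pt M₂, x ≫ d₂ = y ≫ d₂ → Lnk M₂ x y)
    (hJe : BlowUp.IsEffCartierIdeal (vJ ψ N)) (h₁ : BlowUp.IsEffCartierIdeal (vI φ₁ N))
    (h₂ : BlowUp.IsEffCartierIdeal (vI φ₂ N)) (h₃ : BlowUp.IsEffCartierIdeal (vI φ₃ N)) :
    Groth.Agent.Grpsch.Cube.pl τ (ic (vI φ₃ N) h₃)⁻¹ =
      Groth.Agent.Grpsch.Cube.pl (fst M₁ M₂) (ic (vI φ₁ N) h₁)⁻¹ ^ (m + 1) * Groth.Agent.Grpsch.Cube.pl (snd M₁ M₂) (ic (vI φ₂ N) h₂)⁻¹ ^ (n + 1) *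
        D (ic (vJ ψ N) hJe)⁻¹ (fst M₁ M₂ ≫ d₁) (snd M₁ M₂ ≫ d₂) := by
  have hs₁ : sec hdim hLL φ₁ ≫ d₁ = 𝟙 J := (app_det hd₁ hLL (ok_ds hdim hLL)).trans hLL1
  have hs₂ : sec hdim hLL φ₂ ≫ d₂ = 𝟙 J := (app_det hd₂ hLL (ok_ds hdim hLL)).trans hLL1
  have hiso : ∀ x : Pt J, IsIso (lift (toUnit M₂ ≫ x) (𝟙 M₂) ≫ a).left := by
    intro x
    have := isIso_transl hdim hJ hM₂ ha hLL hLL1 x
    exact inferInstanceAs (IsIso ((Over.forget _).map (lift (toUnit M₂ ≫ x) (𝟙 M₂) ≫ a)))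
  have htr : ∀ y : Pt J, IsIso (tr y).left := by
    intro y
    have : IsIso (tr y) := ⟨tr y⁻¹, by rw [tr_comp_tr, mul_inv_cancel, tr_one],
      by rw [tr_comp_tr, inv_mul_cancel, tr_one]⟩
    exact inferInstanceAs (IsIso ((Over.forget _).map (tr y)))
  refine K319.Core.tensor_pull (Nat.le_add_left 1 m) (Nat.le_add_left 1 n) _ _ _ _ hnor a τ d₁ d₂
    (sec hdim hLL φ₁) (sec hdim hLL φ₂) hs₁ hs₂ (fun x => hl₁ _ _ ?_) (fun y => hl₂ _ _ ?_)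
    (one_act hJ hM₂ ha) (fun y => ?_) (fun x => ?_) ?_
  · rw [Category.assoc, Category.assoc, hs₁, Category.comp_id]
  · rw [Category.assoc, Category.assoc, hs₂, Category.comp_id]
  · have h := comap_alpha hdim hJ hLL hLL1 hN ha hφ₂ hψ y
    have e1 := isEff_comap_flat hJe (tr y).left
    have e2 := isEff_mul e1 (isEff_pow hJe m)
    rw [Groth.Agent.Grpsch.Cube.pl, map_inv, pull_ic _ h₂ (h.symm ▸ e2), ic_congr _ e2 h, ic_mul e1 (isEff_pow hJe m),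
      ic_pow hJe, ← pull_ic _ hJe e1, mul_inv, ← map_inv, ← inv_pow, Nat.add_sub_cancel]
  · have h := comap_beta hdim hLL hLL1 hN ha hτ hφ₂ hφ₃ ht₂ x
    have e1 := isEff_comap_flat h₂ (lift (toUnit M₂ ≫ x) (𝟙 M₂) ≫ a).left
    have e2 := isEff_mul e1 (isEff_pow h₂ n)
    rw [Groth.Agent.Grpsch.Cube.pl, map_inv, pull_ic _ h₃ (h.symm ▸ e2), ic_congr _ e2 h, ic_mul e1 (isEff_pow h₂ n),
      ic_pow h₂, ← pull_ic _ h₂ e1, mul_inv, ← map_inv, ← inv_pow, Nat.add_sub_cancel]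
  · have h := comap_gamma hdim hJ hLL hLL1 hN hτ hφ₁ hφ₃ ht₁
    have e2 := isEff_pow h₁ (m + 1)
    rw [Groth.Agent.Grpsch.Cube.pl, map_inv, pull_ic _ h₃ (h.symm ▸ e2), ic_congr _ e2 h, ic_pow h₁, ← inv_pow]

end final

section poinc

variable [IsAlgClosed k] [IsCommMonObj J] [IsProper J.hom] [GeometricallyIntegral J.hom]

/-- The Poincaré bundle of the self-duality defined by `θ` is the Mumford bundle of `θ`. -/
theorem poinc_eq {ΘJ : J.left.Modules} (hΘ : PicF.IsInvertible ΘJ) (φJ : AgPol.DualMap J J)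
    (hsd : Jac.IsSelfDual Scheme.fppfPrecoverage J φJ ΘJ) {P : (J ⊗ J).left.Modules} (hP : PicF.IsInvertible P)
    (hPP : AbDual.IsPoincareCl J J φJ (PicF.cl P)) {T : Over (B0 k)} (f g : T ⟶ J) :
    Groth.Agent.Grpsch.Cube.pl (lift f g) (mk P hP) = K518.Phi.D (mk ΘJ hΘ) f g := by
  obtain ⟨ζ, h1, h2, h3, h4⟩ := K732.AV.exists_of_isPoincareCl hPP
  have h5 : ζ = mk P hP := Groth.Agent.Fga.RigGrp.toCl_injective h4
  have h6 := K519.DualCalc.lam_of_isLambda hΘ hsd.2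
  have h7 := K519.DualCalc.ev_lam hsd.1 h1 h2 h3 (mk ΘJ hΘ) f g
  rw [← h6, Category.comp_id, h5] at h7
  exact h7

end poinc

section row

variable [IsAlgClosed k] [IsCommMonObj J]

open K518.Phi K319.Seesaw Groth.Agent.Dix.IdealModCartier

/-- What is needed of a moduli space of bundles. -/
structure Inp {r : ℕ} {M : Over (B0 k)} (φ : (BunMod.USS (st k X) r 0).Hom ⊤ M) (N : X.Modules) : Prop where
  proper : IsProper M.hom
  geomInt : GeometricallyIntegral M.hom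
  normal : Pi1.IsNormalScheme M.left
  theta : IsTheta φ N
  test : HasTest φ

include hdim hJ hN in
/-- **The tensor product map and the theta line bundles** (all ranks `≥ 1`). -/
theorem main_row {r m : ℕ} (hr : 1 ≤ r) (hm : 1 ≤ m) {ΘJ : J.left.Modules}
    (hΘJ : Jac.IsThetaLB (st k X) 0 ψ N ΘJ) (φJ : AgPol.DualMap J J)
    (hsd : Jac.IsSelfDual Scheme.fppfPrecoverage J φJ ΘJ) {P : (J ⊗ J).left.Modules} (hP : PicF.IsInvertible P)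
    (hPP : AbDual.IsPoincareCl J J φJ (PicF.cl P)) {M₁ M₂ M₃ : Over (B0 k)}
    {φ₁ : (BunMod.USS (st k X) r 0).Hom ⊤ M₁} {φ₂ : (BunMod.USS (st k X) m 0).Hom ⊤ M₂}
    {φ₃ : (BunMod.USS (st k X) (m * r) 0).Hom ⊤ M₃}
    (hM₂ : ModFun.IsBestApprox ⊤ (BunMod.USS (st k X) m 0) M₂ φ₂)
    {a : J ⊗ M₂ ⟶ M₂} (ha : Jac.IsBinOpMap ψ φ₂ φ₂ (Jac.tensorRel (st k X)) a) {τ : M₁ ⊗ M₂ ⟶ M₃}
    (hτ : Jac.IsBinOpMap φ₁ φ₂ φ₃ (Jac.tensorRel (st k X)) τ) {d₁ : M₁ ⟶ J}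
    (hd₁ : BunMod.IsDetMap (st k X) (BunMod.ussOK (st k X) r 0) φ₁ 0 ψ d₁) {d₂ : M₂ ⟶ J}
    (hd₂ : BunMod.IsDetMap (st k X) (BunMod.ussOK (st k X) m 0) φ₂ 0 ψ d₂) {Θ₁ : M₁.left.Modules}
    (hΘ₁ : BunMod.IsThetaLB (st k X) (BunMod.ussOK (st k X) r 0) φ₁ N Θ₁) {Θ₂ : M₂.left.Modules}
    (hΘ₂ : BunMod.IsThetaLB (st k X) (BunMod.ussOK (st k X) m 0) φ₂ N Θ₂) {Θ₃ : M₃.left.Modules}
    (hΘ₃ : BunMod.IsThetaLB (st k X) (BunMod.ussOK (st k X) (m * r) 0) φ₃ N Θ₃)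
    (hψ : IsThetaJ ψ N) (I₁ : Inp φ₁ N) (I₂ : Inp φ₂ N) (hφ₃ : IsTheta φ₃ N)
    (hl₁ : ∀ x y : Pt M₁, x ≫ d₁ = y ≫ d₁ → Lnk M₁ x y) (hl₂ : ∀ x y : Pt M₂, x ≫ d₂ = y ≫ d₂ → Lnk M₂ x y) :
    Nonempty ((Scheme.Modules.pullback τ.left).obj Θ₃ ≅
      CohB1.tensorMod
        (CohB1.tensorMod ((Scheme.Modules.pullback (fst M₁ M₂).left).obj (CohB1.tensorPow Θ₁ m))
          ((Scheme.Modules.pullback (snd M₁ M₂).left).obj (CohB1.tensorPow Θ₂ r)))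
        ((Scheme.Modules.pullback (d₁ ⊗ₘ d₂).left).obj P)) := by
  obtain ⟨n, rfl⟩ : ∃ n, r = n + 1 := ⟨r - 1, by omega⟩
  obtain ⟨m, rfl⟩ : ∃ n, m = n + 1 := ⟨m - 1, by omega⟩
  obtain ⟨-, hp, hgi, -⟩ := K532.ThetaAmple.exists_setup hdim hJ
  obtain ⟨LL, hLL, hLL1⟩ := exists_univ hdim hJ
  have := I₁.proper
  have := I₁.geomInt
  have := I₂.proper
  have := I₂.geomInt
  have hi1 := K319.Core.isIntegral_left M₁
  have eJ := isEffCartierIdeal_of_isInverseOf hΘJ.2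
  have e1 := isEffCartierIdeal_of_isInverseOf hΘ₁.2
  have e2 := isEffCartierIdeal_of_isInverseOf hΘ₂.2
  have e3 := isEffCartierIdeal_of_isInverseOf hΘ₃.2
  have key := main_cl hdim hJ hLL hLL1 hN I₂.normal hM₂ ha hτ hψ I₁.theta I₂.theta hφ₃ I₁.test I₂.test hd₁ hd₂
    hl₁ hl₂ eJ e1 e2 e3
  rw [← mk_eq_inv_ic hΘJ.1 hΘJ.2, ← mk_eq_inv_ic hΘ₁.1 hΘ₁.2, ← mk_eq_inv_ic hΘ₂.1 hΘ₂.2,
    ← mk_eq_inv_ic hΘ₃.1 hΘ₃.2, ← poinc_eq hΘJ.1 φJ hsd hP hPP, ← map_pow, ← map_pow, ← mk_tensorPow,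
    ← mk_tensorPow] at key
  have hl : lift (fst M₁ M₂ ≫ d₁) (snd M₁ M₂ ≫ d₂) = d₁ ⊗ₘ d₂ := by
    ext <;> simp
  rw [hl, Groth.Agent.Grpsch.Cube.pl, Groth.Agent.Grpsch.Cube.pl, Groth.Agent.Grpsch.Cube.pl,
    Groth.Agent.Grpsch.Cube.pl, pull_mk, pull_mk, pull_mk, pull_mk, mk_mul_mk, mk_mul_mk, mk_eq_iff] at key
  exact key

end row

end K319.Main
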