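import Groth.Agent.BunMod.K319.SumFam
import Groth.Agent.JacVar.K532.ThetaAmple
import Groth.Agent.Krr.H487.ExtPull

/-!
# The universal line bundle on the Jacobian and the section `ℓ ↦ [ℓ ⊕ O^(r-1)]` of the determinant
-/

set_option autoImplicit false
universe u

open CategoryTheory CategoryTheory.Limits AlgebraicGeometry MonoidalCategory CartesianMonoidalCategory MonObj

namespace K319.Sect

open K140.BM K319.Dsum K319.SumFam

variable {k : Type u} [Field k] {X : Scheme.{u}} [X.Over (Spec (CommRingCat.of k))]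

/-- The identity twist. -/
theorem r_of_iso {T : Over (B0 k)} {E E' : (PicF.XT (st k X) T).Modules} (e : Nonempty (E ≅ E')) :
    (ModFun.modProb (st k X)).r T E E' := by
  obtain ⟨e⟩ := e
  refine ⟨Coh.structureModule T.left, Groth.Agent.Fdesc.LocGen.isInvertible_structureModule, ⟨?_⟩⟩
  exact e.symm ≪≫ (Groth.Agent.ASBun.K791.Tens.tensRUnit E).symm ≪≫
    Groth.Agent.ASBun.K791.Tens.tensMap (Iso.refl E)
      (Groth.Agent.ASBun.K791.Tens.pullUnit (PicF.XTproj (st k X) T)).symm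

/-- The classifying morphism only depends on the isomorphism class. -/
theorem app_congr {r : ℕ} {M : Over (B0 k)} (φ : (BunMod.USS (st k X) r 0).Hom ⊤ M) {T : Over (B0 k)}
    {E E' : (PicF.XT (st k X) T).Modules} (e : Nonempty (E ≅ E'))
    (h : (BunMod.USS (st k X) r 0).ok T E) (h' : (BunMod.USS (st k X) r 0).ok T E') :
    φ.app T E trivial h = φ.app T E' trivial h' :=
  φ.resp E E' trivial h h' (r_of_iso e)

theorem app_congrJ {J : Over (B0 k)} (ψ : (ModFun.PicDeg (st k X) 0).Hom ⊤ J) {T : Over (B0 k)}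
    {E E' : (PicF.XT (st k X) T).Modules} (e : Nonempty (E ≅ E'))
    (h : (ModFun.PicDeg (st k X) 0).ok T E) (h' : (ModFun.PicDeg (st k X) 0).ok T E') :
    ψ.app T E trivial h = ψ.app T E' trivial h' :=
  ψ.resp E E' trivial h h' (r_of_iso e)

theorem app_pl {r : ℕ} {M : Over (B0 k)} (φ : (BunMod.USS (st k X) r 0).Hom ⊤ M) {T T' : Over (B0 k)} (g : T' ⟶ T)
    {E : (PicF.XT (st k X) T).Modules} {E' : (PicF.XT (st k X) T').Modules} (e : Nonempty (pl k X g E ≅ E'))
    (h : (BunMod.USS (st k X) r 0).ok T E) (h' : (BunMod.USS (st k X) r 0).ok T' E') :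
    g ≫ φ.app T E trivial h = φ.app T' E' trivial h' := by
  have h1 : (BunMod.USS (st k X) r 0).ok T' (pl k X g E) := ⟨trivial, ussOK_pull g h.2⟩
  rw [← app_congr φ e h1 h']
  exact (φ.natural g E trivial trivial h h1).symm

section curve

variable [IsProper (X ↘ Spec (CommRingCat.of k))] [Smooth (X ↘ Spec (CommRingCat.of k))]
  [GeometricallyConnected (X ↘ Spec (CommRingCat.of k))] (hdim : topologicalKrullDim ↥X = 1)

include hdim

omit [Smooth (X ↘ Spec (CommRingCat.of k))] [GeometricallyConnected (X ↘ Spec (CommRingCat.of k))] in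
theorem picDeg_pull {T T' : Over (B0 k)} (g : T' ⟶ T) {L : (PicF.XT (st k X) T).Modules}
    (h : (ModFun.PicDeg (st k X) 0).ok T L) : (ModFun.PicDeg (st k X) 0).ok T' (pl k X g L) :=
  K532.Fine.ok_pull hdim g h

omit [Smooth (X ↘ Spec (CommRingCat.of k))] [GeometricallyConnected (X ↘ Spec (CommRingCat.of k))] in
theorem app_plJ {J : Over (B0 k)} (ψ : (ModFun.PicDeg (st k X) 0).Hom ⊤ J) {T T' : Over (B0 k)} (g : T' ⟶ T)
    {E : (PicF.XT (st k X) T).Modules} {E' : (PicF.XT (st k X) T').Modules} (e : Nonempty (pl k X g E ≅ E'))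
    (h : (ModFun.PicDeg (st k X) 0).ok T E) (h' : (ModFun.PicDeg (st k X) 0).ok T' E') :
    g ≫ ψ.app T E trivial h = ψ.app T' E' trivial h' := by
  have h1 := picDeg_pull hdim g h
  rw [← app_congrJ ψ e h1 h']
  exact (ψ.natural g E trivial trivial h h1).symm

variable [IsAlgClosed k] {J : Over (B0 k)} [GrpObj J] {ψ : (ModFun.PicDeg (st k X) 0).Hom ⊤ J}

/-- **The universal line bundle on the Jacobian.** -/
theorem exists_univ (hJ : Jac.IsJacobian (st k X) ⊤ J ψ) :
    ∃ (LL : (PicF.XT (st k X) J).Modules) (h : (ModFun.PicDeg (st k X) 0).ok J LL),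
      ψ.app J LL trivial h = 𝟙 J := by
  obtain ⟨hX, hp, hgi, hs, σ, hσ, ξ, h, j, -, hψ, -⟩ := K532.ThetaAmple.exists_setup hdim hJ
  obtain ⟨L₀, hL₀, h1⟩ := K532.Fine.exists_family hdim ξ h.deg
  refine ⟨L₀, hL₀, ?_⟩
  apply Groth.Agent.Sga7.H732.Abel.cls_injective h J
  rw [Groth.Agent.Sga7.H732.Abel.cls_apply, Groth.Agent.Sga7.H732.Abel.cls_apply, hψ J L₀ trivial hL₀, h1,
    Groth.Agent.Fga.RigGrp.norm_of_mem _ _ _ h.mem, Groth.Agent.Fga.RigGrp.XTmap_id,
    Groth.Agent.Grpsch.PicGrp.pull_id]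

omit hdim [IsProper (X ↘ Spec (CommRingCat.of k))] [Smooth (X ↘ Spec (CommRingCat.of k))]
  [GeometricallyConnected (X ↘ Spec (CommRingCat.of k))] [IsAlgClosed k] [GrpObj J] in
/-- The determinant of `L ⊕ O^n`. -/
theorem app_det {n : ℕ} {M : Over (B0 k)} {φ : (BunMod.USS (st k X) (n + 1) 0).Hom ⊤ M} {dm : M ⟶ J}
    (hd : BunMod.IsDetMap (st k X) (BunMod.ussOK (st k X) (n + 1) 0) φ 0 ψ dm) {T : Over (B0 k)}
    {L : (PicF.XT (st k X) T).Modules} (hL : (ModFun.PicDeg (st k X) 0).ok T L)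
    (hE : (BunMod.USS (st k X) (n + 1) 0).ok T (ds L (Coh.structureModule (PicF.XT (st k X) T)) n)) :
    φ.app T (ds L (Coh.structureModule (PicF.XT (st k X) T)) n) trivial hE ≫ dm = ψ.app T L trivial hL := by
  have hL1 : FlatMod.IsFinLocFreeOfRank 1 L := hL.1.2
  have hext := Groth.Agent.Dual.H366.ExtQCoh.isExtPow_ext
    (K451.DetPic.isQCoh_of_rank (rank_dsO hL1 n)) (n + 1)
  obtain ⟨e⟩ := nonempty_of_isExtPow hL1 n hext
  exact (hd.2 T _ L trivial hE hL ⟨n + 1, rank_dsO hL1 n,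
    Groth.Agent.Krr.H487.ExtPull.isExtPow_of_iso hext e⟩).symm

end curve

end K319.Sect
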