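import Groth.Agent.AbVar.K518.Phi
import Groth.Agent.AbVar.K521.SeesawRed
import Groth.Agent.S7672

/-!
# See-saw through points; classes on `Y × W`, `W` open in an affine space

`k` an algebraically closed field.

* `exists_pl_fst`, `exists_pl_snd`: see-saw over a reduced base, hypotheses on points.
* `Lnk M x y`: two points of `M` are values of a morphism `W ⟶ M`, `W` an open subscheme of an affine space.
* `pl_eq_of_lnk`: for `Y` a normal variety, a class on `Y × M` has the same restriction to `Y × x` and `Y × y`.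
-/

set_option autoImplicit false
universe u

open CategoryTheory Limits MonoidalCategory CartesianMonoidalCategory AlgebraicGeometry
open scoped MonObj
open Groth.Agent.Grpsch.PicGrp Groth.Agent.Grpsch.Cube
open K518.Phi

namespace K319.Seesaw

section Seesaw

variable {K : Type u} [Field K] [IsAlgClosed K] {A B : Over (Spec (CommRingCat.of K))}

/-- **See-saw.**  `B` a proper variety, `A` reduced locally of finite type: a class on `A × B` trivial on `{w} × B` for all
points `w` of `A` comes from `A`. -/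
theorem exists_pl_fst [LocallyOfFiniteType A.hom] [IsReduced A.left] [IsProper B.hom] [GeometricallyIntegral B.hom]
    (M : Pic (A ⊗ B).left) (h : ∀ w : Pt A, pl (lift (toUnit B ≫ w) (𝟙 B)) M = 1) :
    ∃ d : Pic A.left, pl (fst A B) d = M := by
  have hno : IsLocallyNoetherian A.left := LocallyOfFiniteType.isLocallyNoetherian A.hom
  have hfst : (fst A B).left = pullback.fst A.hom B.hom := rfl
  have i1 : Flat (fst A B).left := by rw [hfst]; infer_instance
  have i2 : IsProper (fst A B).left := by rw [hfst]; infer_instance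
  have i3 : LocallyOfFinitePresentation (fst A B).left := by rw [hfst]; infer_instance
  have i4 : GeometricallyIntegral (fst A B).left := by rw [hfst]; infer_instance
  refine K521.SeesawRed.exists_pull (fst A B).left M _ dense_pts ?_
  rintro x ⟨w, -, hx⟩
  have h1 := Groth.Agent.Sga7.H496.SeeSaw.fromSpecResidueField_section w.left A.hom (Over.w w) x hx
  have h2 : (fst A B).left.fiberι x =
      ((fst A B).left.fiberι x ≫ (snd A B).left) ≫ (lift (toUnit B ≫ w) (𝟙 B)).left := by
    apply pullback.hom_ext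
    · rw [Category.assoc, ← Over.fst_left, ← Over.comp_left, lift_fst, Over.comp_left, Over.toUnit_left,
        Category.assoc]
      have e1 : (fst A B).left.fiberι x ≫ (fst A B).left =
          ((fst A B).left.fiberι x ≫ (snd A B).left) ≫ B.hom ≫ w.left := by
        have e2 : (snd A B).left ≫ B.hom = (fst A B).left ≫ A.hom := (Over.w (snd A B)).trans (Over.w (fst A B)).symm
        rw [Category.assoc, reassoc_of% e2, Scheme.Hom.fiber_fac_assoc, Scheme.Hom.fiber_fac]
        conv_lhs => rw [h1]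
        rw [Category.assoc]
      rw [e1, Category.assoc]
    · rw [Category.assoc, ← Over.snd_left, ← Over.comp_left, lift_snd, Over.id_left, Category.comp_id]
  rw [h2, pull_comp]
  have h3 := h w
  rw [pl] at h3
  rw [h3, map_one]

/-- See-saw with the factors exchanged. -/
theorem exists_pl_snd [LocallyOfFiniteType A.hom] [IsReduced A.left] [IsProper B.hom] [GeometricallyIntegral B.hom]
    (M : Pic (B ⊗ A).left) (h : ∀ w : Pt A, pl (lift (𝟙 B) (toUnit B ≫ w)) M = 1) :
    ∃ d : Pic A.left, pl (snd B A) d = M := by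
  obtain ⟨d, hd⟩ := exists_pl_fst (A := A) (B := B) (pl (lift (snd A B) (fst A B)) M) fun w => by
    rw [← pl_comp, comp_lift, lift_snd, lift_fst]
    exact h w
  refine ⟨d, ?_⟩
  have h1 := congrArg (pl (lift (snd B A) (fst B A))) hd
  rw [← pl_comp, ← pl_comp, lift_fst, comp_lift, lift_snd, lift_fst] at h1
  rw [h1]
  have h2 : lift (fst B A) (snd B A) = 𝟙 (B ⊗ A) := by ext <;> simp
  rw [h2, pl_id]

end Seesaw

section Link

variable {k : Type u} [Field k]

/-- The `n`-dimensional affine space. -/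
noncomputable abbrev AS (k : Type u) [Field k] (n : ℕ) : Over (Spec (CommRingCat.of k)) :=
  Over.mk (𝔸(ULift.{u} (Fin n); Spec (CommRingCat.of k)) ↘ Spec (CommRingCat.of k))

/-- Two points of `M` are values of a morphism from an open subscheme of an affine space. -/
def Lnk (M : Over (Spec (CommRingCat.of k))) (x y : Pt M) : Prop :=
  ∃ (n : ℕ) (W : Over (Spec (CommRingCat.of k))) (j : W ⟶ AS k n) (_ : IsOpenImmersion j.left) (f : W ⟶ M)
    (p q : Pt W), p ≫ f = x ∧ q ≫ f = y

theorem Lnk.symm {M : Over (Spec (CommRingCat.of k))} {x y : Pt M} (h : Lnk M x y) : Lnk M y x := by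
  obtain ⟨n, W, j, hj, f, p, q, h1, h2⟩ := h
  exact ⟨n, W, j, hj, f, q, p, h2, h1⟩

theorem Lnk.map {M N : Over (Spec (CommRingCat.of k))} {x y : Pt M} (h : Lnk M x y) (g : M ⟶ N) :
    Lnk N (x ≫ g) (y ≫ g) := by
  obtain ⟨n, W, j, hj, f, p, q, rfl, rfl⟩ := h
  exact ⟨n, W, j, hj, f ≫ g, p, q, by rw [Category.assoc], by rw [Category.assoc]⟩

/-- A class on `Y × W`, `W` open in affine space. -/
theorem pl_eq_of_open (Y : Over (Spec (CommRingCat.of k))) [IsIntegral Y.left] (hN : Pi1.IsNormalScheme Y.left)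
    [IsSeparated Y.hom] [LocallyOfFiniteType Y.hom] [QuasiCompact Y.hom] {n : ℕ}
    (U : (𝔸(ULift.{u} (Fin n); Spec (CommRingCat.of k))).Opens)
    (p q : Pt (Over.mk (U.ι ≫ (𝔸(ULift.{u} (Fin n); Spec (CommRingCat.of k)) ↘ Spec (CommRingCat.of k)))))
    (c : Pic (Y ⊗ Over.mk (U.ι ≫ (𝔸(ULift.{u} (Fin n); Spec (CommRingCat.of k)) ↘ Spec (CommRingCat.of k)))).left) :
    pl (lift (𝟙 Y) (toUnit Y ≫ p)) c = pl (lift (𝟙 Y) (toUnit Y ≫ q)) c := by
  obtain ⟨L, hL, rfl⟩ := exists_mk c
  let _ : Y.left.Over (Spec (CommRingCat.of k)) := ⟨Y.hom⟩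
  have i1 : IsSeparated (Y.left ↘ Spec (CommRingCat.of k)) := ‹IsSeparated Y.hom›
  have i2 : LocallyOfFiniteType (Y.left ↘ Spec (CommRingCat.of k)) := ‹LocallyOfFiniteType Y.hom›
  have i3 : QuasiCompact (Y.left ↘ Spec (CommRingCat.of k)) := ‹QuasiCompact Y.hom›
  have h := Groth.Agent.S7672.result k Y.left hN n U p.left q.left (Over.w p) (Over.w q)
    (lift (𝟙 Y) (toUnit Y ≫ p)).left (lift (𝟙 Y) (toUnit Y ≫ q)).left
    (by
      have h := congrArg CommaMorphism.left (lift_fst (𝟙 Y) (toUnit Y ≫ p))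
      exact h)
    (by
      have h := congrArg CommaMorphism.left (lift_snd (𝟙 Y) (toUnit Y ≫ p))
      exact h)
    (by
      have h := congrArg CommaMorphism.left (lift_fst (𝟙 Y) (toUnit Y ≫ q))
      exact h)
    (by
      have h := congrArg CommaMorphism.left (lift_snd (𝟙 Y) (toUnit Y ≫ q))
      exact h) L hL
  rw [pl, pl, pull_mk, pull_mk, mk_eq_iff]
  exact h

/-- **Classes on `Y × M` are constant along linked points of `M`**, `Y` a normal variety. -/
theorem pl_eq_of_lnk (Y : Over (Spec (CommRingCat.of k))) [IsIntegral Y.left] (hN : Pi1.IsNormalScheme Y.left)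
    [IsSeparated Y.hom] [LocallyOfFiniteType Y.hom] [QuasiCompact Y.hom] {M : Over (Spec (CommRingCat.of k))}
    (c : Pic (Y ⊗ M).left) {x y : Pt M} (h : Lnk M x y) :
    pl (lift (𝟙 Y) (toUnit Y ≫ x)) c = pl (lift (𝟙 Y) (toUnit Y ≫ y)) c := by
  obtain ⟨n, W, j, hj, f, p, q, rfl, rfl⟩ := h
  let U : (𝔸(ULift.{u} (Fin n); Spec (CommRingCat.of k))).Opens := j.left.opensRange
  let W' : Over (Spec (CommRingCat.of k)) :=
    Over.mk (U.ι ≫ (𝔸(ULift.{u} (Fin n); Spec (CommRingCat.of k)) ↘ Spec (CommRingCat.of k)))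
  let e : W' ≅ W := Over.isoMk j.left.isoOpensRange.symm (by
    have h2 : j.left.isoOpensRange.inv ≫ j.left = U.ι := Scheme.Hom.isoOpensRange_inv_comp _
    have h1 : j.left ≫ (𝔸(ULift.{u} (Fin n); Spec (CommRingCat.of k)) ↘ Spec (CommRingCat.of k)) = W.hom :=
      Over.w j
    change j.left.isoOpensRange.inv ≫ W.hom = U.ι ≫ _
    rw [← h1, ← Category.assoc, h2])
  have h1 := pl_eq_of_open Y hN U (p ≫ e.inv) (q ≫ e.inv) (pl (Y ◁ (e.hom ≫ f)) c)
  rw [← pl_comp, ← pl_comp] at h1
  have h2 : ∀ r : Pt W, lift (𝟙 Y) (toUnit Y ≫ r ≫ e.inv) ≫ Y ◁ (e.hom ≫ f) = lift (𝟙 Y) (toUnit Y ≫ r ≫ f) := by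
    intro r
    rw [lift_whiskerLeft]
    simp
  rw [h2, h2] at h1
  exact h1

end Link

end K319.Seesaw
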